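/-
Groups with a Sylow `2`-subgroup of class two that is a maximal invariant subgroup.
-/
import Cfsg.Agent.GS.Lem4

namespace Cfsg.Agent.GS

open Subgroup Cfsg.Agent.H1 Cfsg.Agent.BG
open Cfsg.Agent.H2 hiding card_lt_of_lt card_lt_of_ne_top isMulCommutative_of_le isPGroup_zpowers_iff mem_of_pow_mem_of_coprime inf_eq_bot_of_cop exists_maxElem_ge Sec
open Cfsg.Agent.H8 (Op Opp Fit SN)
open Cfsg.Agent.L (FPF)
open scoped commutatorElement Pointwise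

universe u
variable {G : Type u} [Group G]
variable {p q r k n : ℕ} {π ρ : Set ℕ} {A B C D D' D'' E H K L M N P Q R R' S T U V W X Y Z : Subgroup G} {a b c g t u v v' v'' x y z z' z'' : G}

theorem comm_mul_right2 (hc : ⁅T, T⁆ ≤ 𝒞 T) (ha : a ∈ T) (hb : b ∈ T) (hx : x ∈ T) : ⁅a, b * x⁆ = ⁅a, b⁆ * ⁅a, x⁆ := by
  have := mem_centralizer_iff.1 (hc (commutator_mem_commutator ha hx)) b hb
  rw [show ⁅a, b * x⁆ = ⁅a, b⁆ * (b * ⁅a, x⁆) * b⁻¹ by simp only [commutatorElement_def]; group, this]; group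

theorem comm_mul_left2 (hc : ⁅T, T⁆ ≤ 𝒞 T) (ha : a ∈ T) (hb : b ∈ T) (hx : x ∈ T) : ⁅a * b, x⁆ = ⁅a, x⁆ * ⁅b, x⁆ := by
  have h1 := hc (commutator_mem_commutator hb hx)
  rw [show ⁅a * b, x⁆ = (a * ⁅b, x⁆) * a⁻¹ * ⁅a, x⁆ by simp only [commutatorElement_def]; group, mem_centralizer_iff.1 h1 a ha,
    mem_centralizer_iff.1 h1 _ (der_le T (commutator_mem_commutator ha hx))]; group

/-- `y ↦ ⁅a, y⁆` on a group of class two -/
def commHom2 (hc : ⁅T, T⁆ ≤ 𝒞 T) (ha : a ∈ T) : T →* G :=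
  MonoidHom.mk' (fun y => ⁅a, (y : G)⁆) fun x y => comm_mul_right2 hc ha x.2 y.2

theorem comm_eq_of_cyclic [Finite G] (hc : ⁅T, T⁆ ≤ 𝒞 T) (ha : a ∈ T) (hu : u ∈ T) (h : T ≤ zpowers u ⊔ D) (hD : D ≤ T) (h1 : a ∈ 𝒞 D)
    (hx : x ∈ T) (hy : y ∈ T) (h2 : orderOf ⁅a, x⁆ = 2) (h3 : orderOf ⁅a, y⁆ = 2) : ⁅a, x⁆ = ⁅a, y⁆ := by
  have key : ∀ x ∈ T, ⁅a, x⁆ ∈ zpowers ⁅a, u⁆ := fun x hx => by
    have : (⊤ : Subgroup T) ≤ (zpowers ⁅a, u⁆).comap (commHom2 hc ha) := by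
      rw [← map_le_map_iff_of_injective T.subtype_injective, ← MonoidHom.range_eq_map, range_subtype]
      exact h.trans (sup_le (zpowers_le.2 ⟨⟨u, hu⟩, mem_zpowers _, rfl⟩) fun d hd => ⟨⟨d, hD hd⟩, by
        change ⁅a, d⁆ ∈ zpowers ⁅a, u⁆
        rw [commutatorElement_eq_one_iff_mul_comm.2 (mem_centralizer_iff.1 h1 d hd).symm]; exact one_mem _, rfl⟩)
    exact this (mem_top ⟨x, hx⟩)
  exact eq_of_ord2_of_isCyclic inferInstance (key x hx) (key y hy) h2 h3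

theorem mem_cent1_of_pow (h : x * a * x⁻¹ * a⁻¹ ∈ 𝒞₁ x) (hn : a ∈ 𝒞₁ (x ^ n)) (hc : n.Coprime (orderOf (x * a * x⁻¹ * a⁻¹))) :
    a ∈ 𝒞₁ x := by
  have h1 : ∀ n : ℕ, x ^ n * a * (x ^ n)⁻¹ * a⁻¹ = (x * a * x⁻¹ * a⁻¹) ^ n := fun n => by
    induction n with
    | zero => simp
    | succ n ih =>
      rw [pow_succ _ n, pow_succ _ n, ← ih, show x ^ n * x * a * (x ^ n * x)⁻¹ * a⁻¹ =
        x ^ n * (x * a * x⁻¹ * a⁻¹) * (x ^ n)⁻¹ * (x ^ n * a * (x ^ n)⁻¹ * a⁻¹) by group,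
        ((Commute.pow_left (mem_cent1.1 h) n).eq), mul_inv_cancel_right, ih, ← pow_succ, ← pow_succ']
  have h2 := h1 n
  rw [mem_cent1.1 hn] at h2
  have h3 := orderOf_eq_one_iff.1 (Nat.eq_one_of_dvd_coprimes hc (orderOf_dvd_of_pow_eq_one (by rw [← h2]; simp)) dvd_rfl)
  rw [mem_cent1, ← mul_inv_eq_one, ← h3]; group

theorem exists_sq_mem [Finite G] (hV : IsPGroup 2 V) (h : ¬ V ≤ D) : ∃ t ∈ V, t ∉ D ∧ t * t ∈ D := by
  obtain ⟨x, hx, h1⟩ := exists_of_not_le h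
  obtain ⟨k, hk⟩ := isPGroup_iff_forall.1 hV x hx
  induction k generalizing x with
  | zero => exact (h1 (by rw [← pow_one x, ← pow_zero 2, hk]; exact one_mem _)).elim
  | succ k ih =>
    by_cases h2 : x * x ∈ D
    · exact ⟨x, hx, h1, h2⟩
    · exact ih (x * x) (mul_mem hx hx) h2 (by rw [← sq, ← pow_mul, ← pow_succ', hk])

variable [Finite G]

theorem ti_comm_sylow (hT : SylIn 2 T X) (hc : IsMulCommutative T) (h : ∀ g ∈ X, g ∉ T → T ⊓ g ⋆ T = ⊥) (h1 : ¬ X ≤ T) (h2 : T ≠ ⊥) :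
    IsCyclic T ∧ ∀ t ∈ T, t * t = 1 → ∀ g ∈ X, Odd (orderOf (t * (g * t * g⁻¹))) := by
  have h3 : PNil 2 X := hT.pNil_of_normalizer_le (le_trans (fun g hg => by
    by_contra e; exact h2 (by simpa [cj_eq_of_mem_normalizer hg.2] using h g hg.1 e)) (le_cent_self hc))
  have h4 := hT.le.trans (le_normalizer_resOf 2 X)
  have hf : FPF (resOf 2 X) T := FPF.of_forall fun x hx h5 k hk e => by
    by_contra h6
    refine h5 (mem_bot.1 ((h k (resOf_le _ _ hk) fun e => h6 (mem_bot.1 ((h3.inf_eq_bot hT.pgrp).le ⟨e, hk⟩))).le (mem_inf.2 ⟨hx, ?_⟩)))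
    rw [mem_cj, mul_assoc, e]; simpa
  refine ⟨hf.isCyclic_of_isMulCommutative h4 fun e => h1 (by rw [← hT.resOf_sup, e, bot_sup_eq]), fun t ht h5 g hg => ?_⟩
  obtain ⟨k, hk, u, hu, rfl⟩ := hT.exists_resOf_mul hg
  refine Nat.coprime_two_right.1 ((h3.mem_resOf_iff.1 ?_).2)
  rw [show t * (k * u * t * (k * u)⁻¹) = t * k * t⁻¹ * (t * (u * t * u⁻¹)) * k⁻¹ by group,
    conj_eq_of_mem_cent1 (le_cent1_of_comm hc ht hu), h5, mul_one]
  exact mul_mem ((mem_normalizer_iff.1 (h4 ht) k).1 hk) (inv_mem hk)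

/-- the standing hypotheses -/
structure Cl2 (K T : Subgroup G) : Prop where
  syl : SylIn 2 T K
  cl : ⁅T, T⁆ ≤ 𝒞 T
  nz : K ⊓ 𝒩 (Zc T) ≤ T

/-- maximal Sylow intersections containing the centre -/
structure Mx (K T D R : Subgroup G) : Prop where
  syl : SylIn 2 R K
  ne : R ≠ T
  le : Zc T ≤ R
  eq : D = T ⊓ R
  max : ∀ R', SylIn 2 R' K → R' ≠ T → Zc T ≤ R' → ♯(T ⊓ R' : Subgroup G) ≤ ♯D

omit [Finite G] in
theorem cj_Zc (g : G) (X : Subgroup G) : g ⋆ Zc X = Zc (g ⋆ X) := by rw [cj_inf, cj_centralizer]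

omit [Finite G] in
theorem Cl2.cj (h : Cl2 K T) (hg : g ∈ 𝒩 K) : Cl2 K (g ⋆ T) :=
  ⟨h.syl.cj_of_mem_normalizer hg, by rw [← cj_commutator, ← cj_centralizer]; exact cj_mono g h.cl, by
    rw [← cj_Zc, ← cj_normalizer, ← cj_eq_of_mem_normalizer hg, ← cj_inf]; exact cj_mono g h.nz⟩

theorem Cl2.of_syl (h : Cl2 K T) (hR : SylIn 2 R K) : Cl2 K R := by
  obtain ⟨g, hg, rfl⟩ := h.syl.exists_cj_eq hR
  exact h.cj (le_normalizer hg)

omit [Finite G] in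
theorem Cl2.norm (h : Cl2 K T) (h1 : Zc T ≤ U) (h2 : U ≤ T) : T ≤ 𝒩 U := le_norm_of_der_le ((le_inf (der_le T) h.cl).trans h1) h2

omit [Finite G] in
theorem Cl2.cz (h : Cl2 K T) (h1 : Zc T ≤ U) : K ⊓ 𝒞 U ≤ T :=
  (inf_le_inf_left K ((centralizer_anti h1).trans (cent_le_norm _))).trans h.nz

omit [Finite G] in
theorem Mx.cj (hD : Mx K T D R) (hg : g ∈ 𝒩 K) (hT : g ∈ 𝒩 T) : Mx K T (g ⋆ D) (g ⋆ R) := by
  have e := cj_eq_of_mem_normalizer hT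
  refine ⟨hD.syl.cj_of_mem_normalizer hg, fun h => hD.ne (cj_inj.1 (h.trans e.symm)), ?_, by rw [hD.eq, cj_inf, e],
    fun R' h1 h2 h3 => by rw [card_cj]; exact hD.max R' h1 h2 h3⟩
  rw [← e, ← cj_Zc]; exact cj_mono g hD.le

omit [Finite G] in
theorem Mx.leT (hD : Mx K T D R) : D ≤ T := hD.eq ▸ inf_le_left
omit [Finite G] in
theorem Mx.leR (hD : Mx K T D R) : D ≤ R := hD.eq ▸ inf_le_right
omit [Finite G] in
theorem Mx.zT (hD : Mx K T D R) : Zc T ≤ D := hD.eq ▸ le_inf inf_le_left hD.le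
omit [Finite G] in
theorem Mx.zR (h : Cl2 K T) (hD : Mx K T D R) : Zc R ≤ D :=
  hD.eq ▸ le_inf ((le_inf (inf_le_left.trans hD.syl.le) (inf_le_right.trans (centralizer_anti hD.le))).trans (h.cz le_rfl)) inf_le_left
omit [Finite G] in
theorem Mx.zzT (hD : Mx K T D R) : Zc T ≤ Zc D := le_inf hD.zT (inf_le_right.trans (centralizer_anti hD.leT))
omit [Finite G] in
theorem Mx.zzR (h : Cl2 K T) (hD : Mx K T D R) : Zc R ≤ Zc D := le_inf (hD.zR h) (inf_le_right.trans (centralizer_anti hD.leR))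
omit [Finite G] in
theorem Mx.nT (h : Cl2 K T) (hD : Mx K T D R) : T ≤ K ⊓ 𝒩 D := le_inf h.syl.le (h.norm hD.zT hD.leT)
theorem Mx.nR (h : Cl2 K T) (hD : Mx K T D R) : R ≤ K ⊓ 𝒩 D := le_inf hD.syl.le ((h.of_syl hD.syl).norm (hD.zR h) hD.leR)
theorem Mx.cent (h : Cl2 K T) (hD : Mx K T D R) : K ⊓ 𝒞 (Zc D) ≤ D :=
  (le_inf (h.cz hD.zzT) ((h.of_syl hD.syl).cz (hD.zzR h))).trans hD.eq.ge
theorem Mx.not_le (h : Cl2 K T) (hD : Mx K T D R) : ¬ R ≤ T := fun e => hD.ne (hD.syl.max T h.syl.le h.syl.pgrp e).symm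
theorem Mx.ti (hD : Mx K T D R) (h1 : SylIn 2 R' K) (h2 : D ≤ R') (h3 : R' ≠ T) : T ⊓ R' = D :=
  (eq_of_le_of_card_ge (le_inf hD.leT h2) (hD.max R' h1 h3 (hD.zT.trans h2))).symm

theorem Mx.quot (h : Cl2 K T) (hD : Mx K T D R) : (∃ u ∈ T, T ≤ zpowers u ⊔ D) ∧
    ∀ t ∈ T, t * t ∈ D → ∀ g ∈ K ⊓ 𝒩 D, ∃ n, Odd n ∧ (t * (g * t * g⁻¹)) ^ n ∈ D := by
  have h1 := hD.nT h
  have h2 := h1.trans inf_le_right
  obtain ⟨h3, h4⟩ := ti_comm_sylow ((h.syl.mono h1 inf_le_left).sec (M := D) inf_le_right)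
    (isMulCommutative_sec h2 ((le_inf (der_le T) h.cl).trans hD.zT)) (fun g hg h3 => by
      obtain ⟨g, h4, hg', rfl⟩ := mem_sec_iff.1 hg
      have h5 : g ∉ T := fun e => h3 (secMk_mem_sec e h4)
      have h6 : D ≤ g ⋆ T := by rw [← cj_eq_of_mem_normalizer h4]; exact cj_mono g hD.leT
      rw [show secMk D ⟨g, h4⟩ ⋆ sec D T = sec D (g ⋆ T) from (sec_conj_smul T h4).symm, ← sec_inf h2 (by
        have := cj_mono g h2; rwa [cj_eq_of_mem h4] at this) h6, sec_eq_bot_iff (inf_le_left.trans h2)]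
      exact (hD.ti (h.syl.cj_of_mem hg'.1) h6 fun e => h5 (h.nz ⟨hg'.1, normalizer_le_Zc T (mem_normalizer_iff_cj.2 e)⟩)).le)
    (fun e => hD.not_le h ((hD.nR h).trans (((sec_le_sec_iff inf_le_right h2).1 e).trans (sup_le le_rfl hD.leT))))
    fun e => hD.ne ((h.syl.max R hD.syl.le hD.syl.pgrp (((sec_eq_bot_iff h2).1 e).trans hD.leR)))
  refine ⟨?_, fun t ht h5 g hg => ⟨_, h4 _ (secMk_mem_sec ht (h2 ht)) ?_ _ (secMk_mem_sec hg hg.2), ?_⟩⟩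
  · obtain ⟨u, hu⟩ := (Subgroup.isCyclic_iff_exists_zpowers_eq_top _).1 h3
    obtain ⟨u, h5, h6, rfl⟩ := mem_sec_iff.1 (hu.le (mem_zpowers u))
    exact ⟨u, h6, (sec_le_sec_iff h2 (zpowers_le.2 h5)).1 (by rw [sec_zpowers h5, hu])⟩
  · rw [← map_mul]; exact (QuotientGroup.eq_one_iff _).2 h5
  · have := pow_orderOf_eq_one (secMk D ⟨t, h2 ht⟩ * (secMk D ⟨g, hg.2⟩ * secMk D ⟨t, h2 ht⟩ * (secMk D ⟨g, hg.2⟩)⁻¹))
    generalize orderOf (_ : Sec D) = n at this ⊢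
    rw [← map_inv, ← map_mul, ← map_mul, ← map_mul, ← map_pow] at this
    simpa using mem_subgroupOf.1 ((QuotientGroup.eq_one_iff _).1 this)

/-- the structure of a maximal intersection that has a neighbour -/
structure St (T D : Subgroup G) (v z : G) : Prop where
  mem : v ∈ Zc D
  sq : v * v = 1
  zsq : z * z = 1
  ne : z ≠ 1
  comm : ∀ u ∈ T, u ∈ D ∨ ⁅v, u⁆ = z
  cen : ∀ x ∈ Zc D, x ∈ Zc T ∨ x * v ∈ Zc T
  nder : z ∉ ⁅D, D⁆
  nsq : ∀ w ∈ Zc T, w * w ≠ z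

omit [Finite G] in
theorem ord2 (h : x * x = 1) (h1 : x ≠ 1) : orderOf x = 2 := orderOf_eq_prime (by rwa [sq]) h1

theorem Mx.nb_symm (h : Cl2 K T) (hD : Mx K T D R) (hD' : Mx K T D' R') (hn : ¬ Zc D' ≤ D) : ¬ Zc D ≤ D' := fun e =>
  hn ((le_inf (inf_le_left.trans (hD'.leT.trans h.syl.le)) (inf_le_right.trans (centralizer_anti e))).trans (hD.cent h))

theorem Mx.st (h : Cl2 K T) (hD : Mx K T D R) (hD' : Mx K T D' R') (hn : ¬ Zc D' ≤ D) : ∃ v z, St T D v z := by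
  have hVT : Zc D ≤ T := inf_le_left.trans hD.leT
  have hV : IsMulCommutative (Zc D) := comm_iff_le_cent.2 (inf_le_right.trans (centralizer_anti inf_le_left))
  have one : ∀ {a b : G}, ⁅a, b⁆ = 1 ↔ b ∈ 𝒞₁ a := commutatorElement_eq_one_iff_mul_comm.trans mem_cent1.symm
  obtain ⟨t, ht, h1, h2⟩ := exists_sq_mem (isPGroup_of_le h.syl.pgrp (inf_le_left.trans hD'.leT)) hn
  have hT := hD'.leT ht.1
  obtain ⟨v₀, hv₀, h3⟩ := exists_of_not_le fun e : Zc D ≤ 𝒞₁ t => h1 (hD.cent h ⟨h.syl.le hT, le_cent1_iff.1 e⟩)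
  have h4 : ∀ x ∈ Zc D, ⁅t, x⁆ * ⁅t, x⁆ = 1 := fun x hx => by
    rw [← comm_mul_left2 h.cl hT hT (hVT hx), one]; exact le_cent1_iff.2 (centralizer_anti (zpowers_le.2 h2) hx.2 |> fun e =>
      le_cent_comm.1 (zpowers_le.2 e) (mem_zpowers _)) (mem_zpowers x)
  set z := ⁅t, v₀⁆ with hz
  have hz1 : z ≠ 1 := mt one.1 h3
  have hz2 : z * z = 1 := h4 _ hv₀
  have hzT : z ∈ Zc T := le_inf (der_le T) h.cl (commutator_mem_commutator hT (hVT hv₀))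
  obtain ⟨⟨u', hu', h5⟩, -⟩ := hD'.quot h
  have h6 : ∀ x ∈ Zc D, ⁅t, x⁆ = 1 ∨ ⁅t, x⁆ = z := fun x hx => or_iff_not_imp_left.2 fun e =>
    comm_eq_of_cyclic h.cl hT hu' h5 hD'.leT ht.2 (hVT hx) (hVT hv₀) (ord2 (h4 x hx) e) (ord2 (h4 _ hv₀) hz1)
  obtain ⟨⟨u, hu, h7⟩, h8⟩ := hD.quot h
  obtain ⟨g, hg, hR⟩ := (h.syl.mono (hD.nT h) inf_le_left).exists_cj_eq (hD.syl.mono (hD.nR h) inf_le_left)
  obtain ⟨n, hn1, hn2⟩ := h8 t hT h2 g hg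
  have hgV : ∀ {g x : G}, g ∈ 𝒩 D → x ∈ Zc D → g * x * g⁻¹ ∈ Zc D := fun hg hx => (mem_normalizer_iff.1 (normalizer_le_Zc D hg) _).1 hx
  set r := g * t * g⁻¹ with hr
  set v := g * z * g⁻¹ with hv
  have hrR : r ∈ R := hR ▸ conj_mem_cj g hT
  have hvR : v ∈ Zc R := by rw [← hR, ← cj_Zc]; exact conj_mem_cj g hzT
  have hvV := hD.zzR h hvR
  have hzV := hD.zzT hzT
  have hv2 : v * v = 1 := by rw [hv, conj_mul, h4 _ hv₀]; simp
  have h9 : ∀ x ∈ Zc D, ⁅r, x⁆ = 1 ∨ ⁅r, x⁆ = v := fun x hx => by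
    have e : ⁅r, x⁆ = g * ⁅t, g⁻¹ * x * g⁻¹⁻¹⁆ * g⁻¹ := by simp only [commutatorElement_def, hr]; group
    exact (h6 _ (hgV (inv_mem hg.2) hx)).imp (fun h => by rw [e, h]; simp) fun h => by rw [e, h]
  have h10 : v ∉ 𝒞₁ t := fun h10 => by
    have hz' : z ∈ 𝒞₁ t := cent1_le_cent hT hzT.2
    have h11 : ∀ x ∈ Zc D, ⁅r, x⁆ ∈ 𝒞₁ t := fun x hx => (h9 x hx).elim (fun e => e ▸ one_mem _) fun e => e ▸ h10
    have h12 : ∀ x ∈ Zc D, x ∈ 𝒞₁ ((t * r) ^ n) := fun x hx => cent1_le_cent hn2 hx.2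
    have h13 : t * r ∈ 𝒞₁ z := by
      have e1 : t * (r * z * r⁻¹) * t⁻¹ = r * z * r⁻¹ := by
        rw [mem_cent1.1 (show r * z * r⁻¹ ∈ 𝒞₁ t by simpa [commutatorElement_def] using mul_mem (h11 z hzV) hz')]; group
      have e2 : r * r * z = z * (r * r) := mem_centralizer_iff.1 hzV.2 _ (by rw [hr, conj_mul]; exact (mem_normalizer_iff.1 hg.2 _).1 h2)
      have e3 : (t * r) ^ 2 ∈ 𝒞₁ z := mem_cent1.2 <| Eq.symm <| by
        calc _ = t * r * (t * (r * z * r⁻¹) * t⁻¹) * (t * r) := by rw [sq]; group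
          _ = t * (r * r * z) * r⁻¹ * r⁻¹ * t⁻¹ * (t * r) ^ 2 := by rw [e1, sq]; group
          _ = _ := by rw [e2, ← mul_assoc t, mem_cent1.1 hz']; group
      obtain ⟨m, rfl⟩ := hn1
      have e4 := mem_cent1.2 (mem_cent1.1 (h12 z hzV)).symm
      rwa [pow_succ, pow_mul, mul_mem_cancel_left (pow_mem e3 m)] at e4
    have h14 : t * r ∈ 𝒞₁ v := mul_mem (mem_cent1.2 (mem_cent1.1 h10).symm) (mem_cent1.2 (mem_centralizer_iff.1 hvR.2 r hrR).symm)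
    have h15 : t * r ∈ D := hD.cent h ⟨mul_mem (h.syl.le hT) (hD.syl.le hrR), le_cent1_iff.1 fun x hx => by
      have e : t * r * x * (t * r)⁻¹ * x⁻¹ = ⁅r, x⁆ * ⁅t, x⁆ := by
        rw [← conj_eq_of_mem_cent1 (mem_cent1.2 (mem_cent1.1 (h11 x hx)).symm)]; simp only [commutatorElement_def]; group
      have e1 := mem_cent1.2 (mem_cent1.1 h13).symm
      have e2 := mem_cent1.2 (mem_cent1.1 h14).symm
      refine mem_cent1_of_pow (n := n) ?_ (h12 x hx) (Nat.Coprime.coprime_dvd_right (orderOf_dvd_of_pow_eq_one (n := 2) ?_) hn1.coprime_two_right)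
      · rw [e]; exact mul_mem ((h9 x hx).elim (fun e => e ▸ one_mem _) fun e => e ▸ e2) ((h6 x hx).elim (fun e => e ▸ one_mem _) fun e => e ▸ e1)
      · rw [e, sq]
        rcases h9 x hx with e3 | e3 <;> rcases h6 x hx with e4 | e4 <;> simp only [e3, e4, one_mul, mul_one, hv2, hz2]
        rw [mul_assoc, ← mul_assoc z, mem_cent1.1 (le_cent1_of_comm hV hzV hvV), mul_assoc v z, hz2, mul_one, hv2]⟩
    exact h1 (hD.eq.ge ⟨hT, (mul_mem_cancel_right hrR).1 (hD.leR h15)⟩)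
  have h11 : ⁅t, v⁆ = z := (h6 v hvV).resolve_left (mt one.1 h10)
  have h12 : T ⊓ 𝒞₁ v ≤ D := by
    obtain ⟨S, hS, h13⟩ := exists_sylIn_ge (isPGroup_of_le h.syl.pgrp inf_le_left) (inf_le_inf_right (𝒞₁ v) h.syl.le)
    have h14 := hD.syl.of_card_le hS.pgrp (hS.le.trans inf_le_left)
      ((hD.syl.mono (le_inf hD.syl.le (le_cent1_iff.2 hvR.2)) inf_le_left).card_eq hS).le
    exact (le_inf inf_le_left h13).trans (hD.ti h14 ((le_inf hD.leT (le_cent1_iff.2 hvV.2)).trans h13)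
      fun e => h10 (mem_cent1.2 (mem_cent1.1 (hS.le (e ▸ hT)).2).symm)).le
  have h13 : ⁅v, t⁆ = z := by rw [← commutatorElement_inv, h11, inv_eq_iff_mul_eq_one, h4 _ hv₀]
  have h14 : ∀ u ∈ T, u ∈ D ∨ ⁅v, u⁆ = z := fun y hy => or_iff_not_imp_left.2 fun e => h13 ▸
    comm_eq_of_cyclic h.cl (hVT hvV) hu h7 hD.leT hvV.2 hy hT (ord2 (by
      rw [← comm_mul_left2 h.cl (hVT hvV) (hVT hvV) hy, hv2, commutatorElement_one_left]) fun e' => e (h12 ⟨hy, one.1 e'⟩))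
      (h13 ▸ ord2 (h4 _ hv₀) hz1)
  have h15 : ∀ x ∈ Zc D, ⁅t, x⁆ = 1 → x ∈ Zc T := fun x hx e => ⟨hVT hx, le_cent1_iff.1 fun y hy => by
    have e1 := mem_cent1.2 (mem_cent1.1 (one.1 e)).symm
    refine (h14 y hy).elim (fun h => le_cent1_iff.2 hx.2 h) fun h' => (mul_mem_cancel_right e1).1 (le_cent1_iff.2 hx.2 (h12 ⟨mul_mem hy hT, one.1 ?_⟩))
    rw [comm_mul_right2 h.cl (hVT hvV) hy hT, h', h13, h4 _ hv₀]⟩
  have h16 : ∀ x ∈ Zc D, x ∈ Zc T ∨ x * v ∈ Zc T := fun x hx => (h6 x hx).imp (h15 x hx) fun e => h15 _ (mul_mem hx hvV) (by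
    rw [comm_mul_right2 h.cl hT (hVT hx) (hVT hvV), e, h11, h4 _ hv₀])
  have h17 : v ∉ Zc T := fun e => h10 (cent1_le_cent hT e.2)
  refine ⟨v, z, hvV, hv2, h4 _ hv₀, hz1, h14, h16, fun e => h17 ?_, fun w hw e => h17 ?_⟩
  · exact le_inf (der_le T) h.cl (commutator_mono hD.leT hD.leT ((mem_normalizer_iff.1 (norm_le_norm_der D hg.2) z).1 e))
  · have h18 := hgV hg.2 (hD.zzT hw)
    rw [hv, ← e, ← conj_mul]
    refine (h16 _ h18).elim (fun e => mul_mem e e) fun e => ?_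
    have := mul_mem e e
    rwa [mul_assoc, ← mul_assoc v, mem_cent1.1 (le_cent1_of_comm hV hvV h18), mul_assoc _ v, hv2, mul_one] at this

omit [Finite G] in
theorem St.uniq (h : Cl2 K T) (hD : Mx K T D R) (h1 : Zc T ≤ D') (h2 : D' ≤ T) (h3 : D'' ≤ T) (s : St T D v z) (s' : St T D' v' z')
    (s'' : St T D'' v'' z'') (n' : ¬ Zc D' ≤ D) (n'' : ¬ Zc D'' ≤ D) : D' ≤ D'' := by
  have one : ∀ {a b : G}, ⁅a, b⁆ = 1 ↔ b ∈ 𝒞₁ a := commutatorElement_eq_one_iff_mul_comm.trans mem_cent1.symm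
  have hv := hD.leT s.mem.1
  have key : ∀ {D' v' z'}, St T D' v' z' → D' ≤ T → ¬ Zc D' ≤ D → ⁅v, v'⁆ = z ∧ z' = z := fun {D' v' z'} s' h2 n' => by
    have h4 : ⁅v, v'⁆ = z := (s.comm v' (h2 s'.mem.1)).resolve_left fun e => n' fun x hx =>
      (s'.cen x hx).elim (fun h => hD.zT h) fun h => (mul_mem_cancel_right e).1 (hD.zT h)
    refine ⟨h4, ?_⟩
    rw [← (s'.comm v hv).resolve_left fun e => s.ne (h4 ▸ one.2 (cent1_le_cent e s'.mem.2)), ← commutatorElement_inv, h4,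
      inv_eq_iff_mul_eq_one, s.zsq]
  obtain ⟨h4, rfl⟩ := key s' h2 n'
  obtain ⟨h5, rfl⟩ := key s'' h3 n''
  have hv' := h2 s'.mem.1
  have hv'' := h3 s''.mem.1
  have h6 : v' * v'' ∈ D := (s.comm _ (mul_mem hv' hv'')).resolve_right (by
    rw [comm_mul_right2 h.cl hv hv' hv'', h4, h5, s.zsq]; exact s.ne.symm)
  have h7 : ∀ {D' v'}, St T D' v' z'' → ∀ u ∈ T, ⁅v', u⁆ = 1 ∨ ⁅v', u⁆ = z'' := fun s' u hu =>
    (s'.comm u hu).imp_left fun e => one.2 (le_cent1_iff.2 s'.mem.2 e)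
  have h8 : v' * v'' ∈ Zc D := ⟨h6, le_cent1_iff.1 fun d hd => one.1 <| by
    have e := comm_mul_left2 h.cl hv' hv'' (hD.leT hd)
    have h9 := commutator_mem_commutator h6 hd
    rcases h7 s' d (hD.leT hd) with e1 | e1 <;> rcases h7 s'' d (hD.leT hd) with e2 | e2 <;>
      simp only [e1, e2, one_mul, mul_one, s.zsq] at e
    exacts [e, (s.nder (e ▸ h9)).elim, (s.nder (e ▸ h9)).elim, e]⟩
  rcases s.cen _ h8 with e | e
  · refine fun u hu => (s''.comm u (h2 hu)).resolve_right fun e1 => s.ne ?_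
    have := one.2 (le_cent1_iff.2 e.2 (h2 hu))
    rwa [comm_mul_left2 h.cl hv' hv'' (h2 hu), e1, one.2 (le_cent1_iff.2 s'.mem.2 hu), one_mul] at this
  · refine (s.nsq _ e ?_).elim
    have e1 := mem_centralizer_iff.1 e.2
    have i : ∀ {x : G}, x * x = 1 → x⁻¹ = x := fun h => inv_eq_of_mul_eq_one_right h
    have e2 : v'' = v' * (v' * v'' * v) * v := by
      rw [← mul_assoc, ← mul_assoc, s'.sq, one_mul, mul_assoc, s.sq, mul_one]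
    have e3 := s''.sq
    generalize v' * v'' * v = w at e1 e2 ⊢
    have e4 : v' * v * v' * v = z'' := by
      rw [← i s.zsq, ← h4, commutatorElement_inv, commutatorElement_def, i s.sq, i s'.sq]
    rw [e2, e1 v' hv', show w * v' * v * (w * v' * v) = w * (v' * v * w) * v' * v by group, e1 _ (mul_mem hv' hv),
      show w * (w * (v' * v)) * v' * v = w * w * (v' * v * v' * v) by group, e4] at e3
    rw [← i s.zsq]; exact eq_inv_of_mul_eq_one_left e3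

theorem Cl2.pNil (h : Cl2 K T) (hA : Odd (♯A)) (hK : A ≤ 𝒩 K) (hT : A ≤ 𝒩 T)
    (hN : ∀ W ≤ T, Zc T ≤ W → A ≤ 𝒩 W → K ⊓ 𝒩 W ≤ T) : PNil 2 K := by
  by_cases h0 : ∃ R, SylIn 2 R K ∧ R ≠ T ∧ Zc T ≤ R
  swap
  · refine h.syl.pNil_of_control fun x hx u hu h1 => ?_
    replace hu := resOf_le _ _ hu
    have h2 : IsPGroup 2 (Zc T) := isPGroup_of_le h.syl.pgrp inf_le_left
    have h3 : ∀ y ∈ T, Zc T ≤ K ⊓ 𝒞₁ y := fun y hy => le_inf (inf_le_left.trans h.syl.le) (inf_le_right.trans (cent1_le_cent hy))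
    obtain ⟨S, hS, h4⟩ := exists_sylIn_ge h2 (h3 _ h1)
    obtain ⟨c, hc, h5⟩ := hS.exists_cj_le (isPGroup_cj u h2) (by
      have := cj_mono u (h3 x hx.1); rwa [cj_inf u K, cj_eq_of_mem hu, cj_centralizer_singleton] at this)
    obtain ⟨R, hR, h6⟩ := exists_sylIn_ge hS.pgrp (hS.le.trans inf_le_left)
    have h7 : R = T := by_contra fun e => h0 ⟨R, hR, e, h4.trans h6⟩
    have h8 := mul_mem hc.1 hu
    have h9 : (c * u)⁻¹ ⋆ T = T := by_contra fun e =>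
      h0 ⟨_, h.syl.cj_of_mem (inv_mem h8), e, cj_le_iff.1 (by rw [cj_mul]; exact h5.trans (h7 ▸ h6))⟩
    refine ⟨c * u, h.nz ⟨h8, normalizer_le_Zc T (inv_mem_iff.1 (mem_normalizer_iff_cj.2 h9))⟩, ?_⟩
    rw [← conj_eq_of_mem_cent1 hc.2]; group
  obtain ⟨R, h1, h2⟩ := Set.exists_max_image _ (fun R : Subgroup G => ♯(T ⊓ R : Subgroup G)) (Set.toFinite _) h0
  have hD : Mx K T (T ⊓ R) R := ⟨h1.1, h1.2.1, h1.2.2, rfl, fun R' a b c => h2 R' ⟨a, b, c⟩⟩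
  generalize T ⊓ R = D at hD
  have h3 : ∀ a ∈ A, Mx K T (a ⋆ D) (a ⋆ R) := fun a ha => hD.cj (hK ha) (hT ha)
  exfalso
  by_cases h4 : ∀ a ∈ A, Zc D ≤ a ⋆ D
  · have h5 : (⨅ a : A, (a : G) ⋆ D) ≤ D := iInf_le_of_le 1 (cj_one D).le
    have h6 : Zc D ≤ ⨅ a : A, (a : G) ⋆ D := le_iInf fun a => h4 a a.2
    refine hD.not_le h ((le_inf hD.syl.le ((h.of_syl hD.syl).norm ((hD.zzR h).trans h6) (h5.trans hD.leR))).trans
      (hN _ (h5.trans hD.leT) (hD.zzT.trans h6) fun a ha => mem_normalizer_of_cj_le (le_iInf fun b => cj_le_iff.2 ?_)))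
    rw [← cj_mul]; exact iInf_le_of_le ⟨_, mul_mem (inv_mem ha) b.2⟩ le_rfl
  push Not at h4
  obtain ⟨a, ha, h4⟩ := h4
  have h5 := (h3 a ha).nb_symm h hD h4
  have h6 : ¬ Zc (a⁻¹ ⋆ D) ≤ D := by rwa [← cj_Zc, ← le_cj_iff]
  obtain ⟨v, z, s⟩ := hD.st h (h3 a ha) h5
  obtain ⟨v', z', s'⟩ := (h3 a ha).st h hD h4
  obtain ⟨v'', z'', s''⟩ := (h3 _ (inv_mem ha)).st h hD (hD.nb_symm h (h3 _ (inv_mem ha)) h6)
  have h7 := s.uniq h hD (h3 a ha).zT (h3 a ha).leT (h3 _ (inv_mem ha)).leT s' s'' h5 h6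
  have h8 : a ^ 2 ∈ 𝒩 D := mem_normalizer_of_cj_le (by rw [sq, cj_mul]; exact cj_le_iff.2 h7)
  rw [cj_eq_of_mem_normalizer (H1.mem_of_pow_mem_of_coprime h8
    (hA.of_dvd_nat (orderOf_dvd_card_of_mem ha)).coprime_two_left)] at h4
  exact h4 inf_le_left

end Cfsg.Agent.GS
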