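/-
Counting conjugacy classes of `π`-elements.
-/
import Cfsg.Agent.GS.Lem2

namespace Cfsg.Agent.GS

open Subgroup Cfsg.Agent.H1 Cfsg.Agent.BG
open Cfsg.Agent.H2 hiding card_lt_of_lt card_lt_of_ne_top isMulCommutative_of_le isPGroup_zpowers_iff mem_of_pow_mem_of_coprime inf_eq_bot_of_cop exists_maxElem_ge Sec
open Cfsg.Agent.H8 (Op Opp Fit SN)
open Cfsg.Agent.L (FPF)
open scoped commutatorElement

universe u
variable {G : Type u} [Group G] [Finite G]
variable {p q r k n : ℕ} {π ρ : Set ℕ} {A B C D E H K L M N P Q R S T U V X Y Z : Subgroup G} {a b g x y : G}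

/-- the number of classes of `π`-elements -/
noncomputable abbrev kpi (π : Set ℕ) (G : Type*) [Group G] : ℕ :=
  ♯{C : ConjClasses G // ∀ q : ℕ, q.Prime → (∃ g : G, ConjClasses.mk g = C ∧ q ∣ orderOf g) → q ∈ π}

omit [Finite G] in
theorem piC_mk : (∀ q : ℕ, q.Prime → (∃ g : G, ConjClasses.mk g = ConjClasses.mk x ∧ q ∣ orderOf g) → q ∈ π) ↔ PiE π x :=
  ⟨fun h q hq hd => h q hq ⟨x, rfl, hd⟩, fun h q hq ⟨g, h1, hd⟩ => by
    obtain ⟨c, rfl⟩ := isConj_iff.1 (ConjClasses.mk_eq_mk_iff_isConj.1 h1)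
    exact h q hq (by rwa [orderOf_conj'])⟩

omit [Finite G] in
theorem kpi_univ : kpi Set.univ G = ♯(ConjClasses G) := Nat.card_congr (Equiv.subtypeUnivEquiv fun _ _ _ _ => trivial)

open Classical in
theorem kpi_mul [Fintype G] (π : Set ℕ) : kpi π G * ♯G = ∑ x : G with PiE π x, ♯(𝒞₁ x) := by
  rw [card_classes_mul]; simp only [piC_mk]

omit [Finite G] in
theorem card_cent1_sub (y : Y) : ♯(𝒞₁ y) = ♯(Y ⊓ 𝒞₁ (y : G) : Subgroup G) := by
  rw [inf_comm, ← card_subgroupOf']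
  congr 3
  ext z
  simp only [mem_subgroupOf, mem_cent1, Subtype.ext_iff, coe_mul]

open Classical in
theorem kpi_mul_sub [Fintype G] (π : Set ℕ) (Y : Subgroup G) :
    kpi π Y * ♯Y = ∑ x : G with x ∈ Y ∧ PiE π x, ♯(Y ⊓ 𝒞₁ x : Subgroup G) := by
  rw [kpi_mul]
  refine Finset.sum_bij (fun y _ => (y : G)) (fun y hy => ?_) (fun a _ b _ => Subtype.ext) (fun x hx => ?_)
    fun y _ => card_cent1_sub y
  · simpa [PiE] using hy
  · exact ⟨⟨x, (Finset.mem_filter.1 hx).2.1⟩, Finset.mem_filter.2 ⟨Finset.mem_univ _,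
      by unfold PiE; rw [← orderOf_coe]; exact (Finset.mem_filter.1 hx).2.2⟩, rfl⟩

open Classical in
theorem card_classes_mul_sub [Fintype G] (Y : Subgroup G) :
    ♯(ConjClasses Y) * ♯Y = ∑ x : G with x ∈ Y, ♯(Y ⊓ 𝒞₁ x : Subgroup G) := by
  rw [← kpi_univ, kpi_mul_sub]
  exact Finset.sum_congr (Finset.filter_congr fun x _ => and_iff_left fun _ _ _ => trivial) fun _ _ => rfl

open Classical in
theorem card_inf_cent1_eq [Fintype G] (B : Subgroup G) (a : G) :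
    ♯(B ⊓ 𝒞₁ a : Subgroup G) = ((Finset.univ.filter (· ∈ B)).filter fun b => a * b = b * a).card := by
  rw [Finset.filter_filter, ← card_subtype_eq_filter]
  exact Nat.card_congr (Equiv.subtypeEquivRight fun b => by rw [mem_inf, mem_cent1])

open Classical in
theorem sum_card_inf_cent1 [Fintype G] (A B : Subgroup G) :
    ∑ a : G with a ∈ A, ♯(B ⊓ 𝒞₁ a : Subgroup G) = ∑ b : G with b ∈ B, ♯(A ⊓ 𝒞₁ b : Subgroup G) := by
  simp only [card_inf_cent1_eq]
  exact (Finset.sum_card_bipartiteAbove_eq_sum_card_bipartiteBelow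
    (fun a b : G => a * b = b * a) (s := Finset.univ.filter (· ∈ A)) (t := Finset.univ.filter (· ∈ B))).trans
    (Finset.sum_congr rfl fun b _ => congrArg _ (Finset.filter_congr fun a _ => eq_comm))

theorem ncard_coset_cent1_le (N : Subgroup G) (y : G ⧸ N) (m : G) :
    {z : G | (z : G ⧸ N) = y ∧ m * z = z * m}.ncard ≤ ♯(N ⊓ 𝒞₁ m : Subgroup G) := by
  rcases {z : G | (z : G ⧸ N) = y ∧ m * z = z * m}.eq_empty_or_nonempty with e | ⟨c, c1, c2⟩
  · simp [e]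
  rw [← ncard_coe]
  exact Set.ncard_le_ncard_of_injOn (c⁻¹ * ·) (fun z ⟨z1, z2⟩ => ⟨QuotientGroup.eq.1 (c1.trans z1.symm),
    (𝒞₁ m).mul_mem (inv_mem (mem_cent1.2 c2)) (mem_cent1.2 z2)⟩) fun a _ b _ => mul_left_cancel

open Classical in
theorem sum_coset_le [Fintype G] (π : Set ℕ) (N : Subgroup G) (y : G ⧸ N) :
    ∑ x : G with PiE π x ∧ QuotientGroup.mk x = y, ♯(N ⊓ 𝒞₁ x : Subgroup G) ≤ kpi π N * ♯N := by
  choose a ha b hb e h1 h2 using exists_pi_parts (G := G) π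
  rw [kpi_mul_sub]
  refine le_trans ?_ (Finset.sum_le_sum fun m _ => ncard_coset_cent1_le N y m)
  simp only [card_inf_cent1_eq, Set.ncard_eq_toFinset_card', ← Finset.card_sigma]
  have hc : ∀ {x n c : G}, x * n = n * x → c ∈ zpowers n → Commute x c := fun h hc =>
    commute_of_mem_cent1 (zpowers_le.2 (mem_cent1.2 h) hc)
  refine Finset.card_le_card_of_injOn (fun z => ⟨a z.2, z.1 * b z.2⟩) (fun ⟨x, n⟩ hz => ?_) fun ⟨x, n⟩ hz ⟨x', n'⟩ hz' h => ?_
  · simp only [Finset.coe_sigma, Finset.coe_filter, Finset.mem_univ, true_and, Set.mem_sigma_iff, Set.mem_setOf_eq,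
      Set.coe_toFinset, Finset.mem_filter] at hz ⊢
    obtain ⟨⟨-, rfl⟩, hn, h⟩ := hz
    exact ⟨⟨zpowers_le.2 hn (ha n), h1 n⟩, QuotientGroup.mk_mul_of_mem x (zpowers_le.2 hn (hb n)),
      ((hc h (ha n)).symm.mul_right (commute_of_mem_zpowers (ha n) (hb n))).eq⟩
  · simp only [Finset.coe_sigma, Finset.coe_filter, Finset.mem_univ, true_and, Set.mem_sigma_iff, Set.mem_setOf_eq,
      Finset.mem_filter, Sigma.mk.injEq, heq_eq_eq] at hz hz' h ⊢
    obtain ⟨h3, h4⟩ := pi_parts_unique (hc hz.2.2 (hb n)) (hc hz'.2.2 (hb n')) h.2 hz.1.1 (h2 n) hz'.1.1 (h2 n')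
    exact ⟨h3, by rw [e n, e n', h.1, h4]⟩

theorem kpi_le_mul (π : Set ℕ) (N : Subgroup G) [N.Normal] : kpi π G ≤ kpi π N * kpi π (G ⧸ N) := by
  classical
  have := Fintype.ofFinite G
  have := Fintype.ofFinite (G ⧸ N)
  refine Nat.le_of_mul_le_mul_right ?_ (Nat.card_pos (α := G))
  calc _ = _ := kpi_mul π
    _ = ∑ y : G ⧸ N with PiE π y, ∑ x ∈ (Finset.univ.filter (PiE π)).filter (fun x : G => (x : G ⧸ N) = y), ♯(𝒞₁ x) :=
      (Finset.sum_fiberwise_of_maps_to (g := fun x : G => (x : G ⧸ N)) (t := Finset.univ.filter (PiE π)) (fun x hx => Finset.mem_filter.2 ⟨Finset.mem_univ _,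
        PiN.of_dvd (Finset.mem_filter.1 hx).2 (orderOf_map_dvd (QuotientGroup.mk' N) x)⟩) _).symm
    _ ≤ ∑ y : G ⧸ N with PiE π y, kpi π N * ♯N * ♯(𝒞₁ y) := Finset.sum_le_sum fun y _ => by
      refine le_trans ?_ (Nat.mul_le_mul_right _ (sum_coset_le π N y))
      rw [Finset.sum_mul, Finset.filter_filter]
      exact Finset.sum_le_sum fun x hx => (Finset.mem_filter.1 hx).2.2 ▸ card_cent1_le_mul N x
    _ = _ := by
      rw [← Finset.mul_sum]
      convert congrArg (kpi π N * ♯N * ·) (kpi_mul (G := G ⧸ N) π).symm using 1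
      rw [card_eq_card_quotient_mul_card_subgroup N]; ring

theorem card_classes_le_mul (N : Subgroup G) [N.Normal] : ♯(ConjClasses G) ≤ ♯(ConjClasses N) * ♯(ConjClasses (G ⧸ N)) := by
  simpa only [kpi_univ] using kpi_le_mul Set.univ N

theorem kpi_mono (h : ∀ q, q.Prime → q ∣ ♯G → q ∈ π → q ∈ ρ) : kpi π G ≤ kpi ρ G :=
  Nat.card_le_card_of_injective (Subtype.impEmbedding _ _ fun C hC q hq ⟨g, h1, h2⟩ =>
    h q hq (h2.trans (orderOf_dvd_natCard g)) (hC q hq ⟨g, h1, h2⟩)) (Subtype.impEmbedding _ _ _).2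

theorem exists_rep_sylIn [Fact p.Prime] (hP : SylIn p P ⊤) (C : ConjClasses G) :
    ∃ y, ConjClasses.mk y = C ∧ SylIn p (P ⊓ 𝒞₁ y) (𝒞₁ y) := by
  obtain ⟨x, rfl⟩ := ConjClasses.mk_surjective C
  obtain ⟨S, hS⟩ := exists_sylIn p (𝒞₁ x)
  obtain ⟨g, -, hg⟩ := hP.exists_cj_le hS.pgrp le_top
  have h1 := hS.cj g
  rw [cj_centralizer_singleton] at h1
  exact ⟨_, ConjClasses.mk_eq_mk_iff_isConj.2 (isConj_iff.2 ⟨g, rfl⟩).symm, h1.of_card_le (isPGroup_of_le hP.pgrp inf_le_left)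
    inf_le_right (card_le_of_le (le_inf hg h1.le))⟩

theorem kpi_le_mul_sylIn [Fact p.Prime] (hP : SylIn p P ⊤) (π : Set ℕ) : kpi π G ≤ kpi (π \ {p}) G * ♯P := by
  choose y h1 h2 using exists_rep_sylIn hP
  rw [← Nat.card_prod]
  have : ∀ C : {C : ConjClasses G // ∀ q : ℕ, q.Prime → (∃ g : G, ConjClasses.mk g = C ∧ q ∣ orderOf g) → q ∈ π},
      ∃ z : {C : ConjClasses G // ∀ q : ℕ, q.Prime → (∃ g : G, ConjClasses.mk g = C ∧ q ∣ orderOf g) → q ∈ π \ {p}} × P,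
        ConjClasses.mk (z.2 * y z.1) = C := fun ⟨C, hC⟩ => by
    obtain ⟨x, rfl⟩ := ConjClasses.mk_surjective C
    obtain ⟨a, ha, b, hb, e, ⟨k, h3⟩, h4⟩ := exists_p_parts (p := p) x
    obtain ⟨c, hc⟩ := isConj_iff.1 (ConjClasses.mk_eq_mk_iff_isConj.1 (h1 (ConjClasses.mk b)).symm)
    obtain ⟨d, hd, h5⟩ := (h2 (ConjClasses.mk b)).exists_conj_mem
      (hc ▸ mem_cent1_conj (mem_cent1.2 (commute_of_mem_zpowers hb ha)) c) ((orderOf_conj' c a).trans h3)
    refine ⟨⟨⟨ConjClasses.mk b, piC_mk.2 fun q hq h => ⟨(piC_mk.1 hC).of_mem_zpowers hb q hq h,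
      coprime_iff_forall_prime_ne Fact.out |>.1 h4 q hq h⟩⟩, ⟨_, h5.1⟩⟩,
      ConjClasses.mk_eq_mk_iff_isConj.2 (isConj_iff.2 ⟨d * c, ?_⟩).symm⟩
    show _ = d * (c * a * c⁻¹) * d⁻¹ * y (ConjClasses.mk b)
    rw [← conj_eq_of_mem_cent1 hd, ← hc]
    conv_lhs => rw [e]
    group
  choose f hf using this
  exact Nat.card_le_card_of_injective f fun C D h => Subtype.ext (by rw [← hf, h, hf])

theorem kpi_le (m : ℕ) : ∀ t, m * t = ♯G → m.Coprime t → kpi {q | q ∣ m} G ≤ m := by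
  induction m using Nat.recOnPrimePow with
  | zero => exact fun t h => absurd h (by simpa using Nat.card_pos.ne)
  | one =>
    refine fun _ _ _ => Finite.card_le_one_iff_subsingleton.2 ⟨fun ⟨C, hC⟩ ⟨D, hD⟩ => Subtype.ext ?_⟩
    have : ∀ x : G, PiE {q | q ∣ 1} x → x = 1 := fun x hx => by_contra fun e => by
      obtain ⟨q, hq, h⟩ := exists_prime_dvd_orderOf e
      exact hq.not_dvd_one (hx q hq h)
    obtain ⟨x, rfl⟩ := ConjClasses.mk_surjective C
    obtain ⟨y, rfl⟩ := ConjClasses.mk_surjective D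
    show ConjClasses.mk x = ConjClasses.mk y
    rw [this x (piC_mk.1 hC), this y (piC_mk.1 hD)]
  | prime_pow_mul a p n hp h1 h2 ih =>
    intro t h3 h4
    have := Fact.mk hp
    obtain ⟨P, hP⟩ := exists_sylIn p (⊤ : Subgroup G)
    have h5 : ♯P ∣ p ^ n := (coprime_card_of_isPGroup hP.pgrp (Nat.Coprime.mul_left
      ((Nat.Prime.coprime_iff_not_dvd hp).2 h1).symm (h4.coprime_dvd_left
        ((dvd_pow_self p h2.ne').mul_right a)).symm)).dvd_of_dvd_mul_right (by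
      rw [← mul_assoc, h3]; exact card_subgroup_dvd_card P)
    refine (kpi_le_mul_sylIn hP _).trans ?_
    rw [mul_comm]
    refine Nat.mul_le_mul (Nat.le_of_dvd (pow_pos hp.pos n) h5) ((kpi_mono fun q hq _ h => ?_).trans
      (ih (p ^ n * t) (by rw [← h3]; ring) (Nat.Coprime.mul_right
        (((Nat.Prime.coprime_iff_not_dvd hp).2 h1).symm.pow_right n) (h4.coprime_mul_left))))
    exact ((Nat.Prime.dvd_mul hq).1 h.1).resolve_left fun e =>
      h.2 ((Nat.prime_dvd_prime_iff_eq hq hp).1 (hq.dvd_of_dvd_pow e))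

end Cfsg.Agent.GS
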