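/- Classes of elements of order 2 and 3 in `M24`; centralizers; Sylow subgroups. -/
import Cfsg.Agent.GS.Mk1

set_option linter.unusedSectionVars false
set_option maxRecDepth 100000
namespace Cfsg.Agent.St
open Finset H6 MulAction
open scoped Pointwise

def wa : List ℕ := [3,3,1,3,1,1,1,3,1,3,1,3,3]
def wb : List ℕ := [1,4,0,0,0,2,1,1,1,3,0]
theorem ra_eq : ra = wp mg wa := rp_ra.eq_wp (by decide +kernel)
noncomputable def zb : M24 := wp mg wb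
theorem rb_eq : rb = wp mg [2,1,3,2,0,0,3,0] * zb * (wp mg [2,1,3,2,0,0,3,0])⁻¹ := by
  rw [zb, ← wp_invw invP, ← wp_lapp, ← wp_lapp]; exact rp_rb.eq_wp (by decide +kernel)
theorem cnt_ra : Cnt ra 8 71 112 99 91 := ra_eq ▸ Cnt.of (by decide +kernel) (by decide +kernel) (by decide +kernel) (by decide +kernel) (by decide +kernel)
theorem cnt_zb : Cnt zb 0 15 32 75 51 := Cnt.of (by decide +kernel) (by decide +kernel) (by decide +kernel) (by decide +kernel) (by decide +kernel)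
theorem inv_cls {g : M24} (h : orderOf g = 2) : (∃ c, c * ra * c⁻¹ = g) ∨ ∃ c, c * zb * c⁻¹ = g := by
  have h1 : g ≠ 1 := by rintro rfl; simp at h
  refine (inv_classes h1 (by rw [← sq, ← h, pow_orderOf_eq_one])).imp isConj_iff.1 fun h => isConj_iff.1 ?_
  exact (isConj_iff.2 ⟨_, rb_eq.symm⟩).trans h
theorem inv_cnt {g : M24} (h : orderOf g = 2) : Cnt g 8 71 112 99 91 ∨ Cnt g 0 15 32 75 51 :=
  (inv_cls h).imp (fun ⟨c, e⟩ => e ▸ cnt_ra.conj c) fun ⟨c, e⟩ => e ▸ cnt_zb.conj c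
def LCb : Lev := (Lev.cons 0 24 [[4,2,1,4,0,4,2,1,3,0,3,3,1,3,2,1]]
  (Lev.cons 2 2 [[2,1,1,1,3,0,3,0,4,1,1,4,0,0,3,2]]
  (Lev.cons 3 20 [[1,1,3,0,0,0,3,0,0,0,3,0,0,0,3]]
  (Lev.cons 4 8 [[3,0,4,0,0,0,4,1,1,3,0,3,3,0],[3,3,1,4,1,3,1,1,1,3,1,4],[1,3,3,0,4,0,4,1,1,3,0,0,3,1,3]]
  Lev.nil))))
theorem cent_zb_le : Subgroup.centralizer {zb} ≤ stabilizer M24 (sxX 0) := by
  intro c hc
  rw [Subgroup.mem_centralizer_singleton_iff] at hc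
  obtain ⟨j, hj, e⟩ := inv_of_trans mSx tSx c
  have h0 : ∀ T ∈ sxX 0, zb • T = T := by
    rw [sxX_0]
    intro T hT
    obtain ⟨m, hm, rfl⟩ := mem_ffs.1 hT
    have := (lall_eq _ _).1 (by decide +kernel : lall (fun m => closedM nP [wb] m) [0x24028, 0x41900, 0x108600, 0x2800c0, 0x412010, 0x800007] = true) m hm
    have h := mP.toIsPre.cl_le_stab_pts rfl this (wp_mem_cl (w := wb) (by simp))
    rw [pts_pt, mem_stabilizer_iff, ← coe_smul_finset, coe_inj] at h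
    exact h
  have h1 : ∀ T ∈ sxX j, zb • T = T := by
    intro T hT
    rw [e] at hT
    obtain ⟨U, hU, rfl⟩ := mem_smul_finset.1 hT
    rw [← mul_smul, ← hc, mul_smul]; exact congrArg (c • ·) (h0 U hU)
  have h2 : nall (fun p => Nat.beq (rSx p p) (fullM 1771)) 24 = true := by decide +kernel
  have h3 : lands (fun p => rSx p (fnWc nP wb p)) (nrange 24 0) (fullM 1771) = 1 := by decide +kernel
  simp only [nall_eq, beq_eq] at h2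
  have hf : (fullM 1771).testBit j = true := by
    show (2 ^ 1771 - 1).testBit j = true
    rw [Nat.testBit_two_pow_sub_one]; simpa using hj
  have h4 := (testBit_lands (fun p => rSx p (fnWc nP wb p)) (nrange 24 0) (fullM 1771) j).2 ⟨hf, fun p hp => by
    have hp : p < 24 := by rw [nrange_eq] at hp; simpa using hp
    have a : pt p ∈ subX 24 pt (rSx p) j := mem_subX.2 ⟨p, hp, h2 p hp ▸ hf, rfl⟩
    have b := h1 _ (mem_parX.2 ⟨p, hp, h2 p hp ▸ hf, rfl⟩)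
    have : zb • pt p ∈ subX 24 pt (rSx p) j := b ▸ smul_mem_smul_finset a
    obtain ⟨q, hq, a1, a2⟩ := mem_subX.1 this
    rw [zb, mP.cmpW (fun _ _ => rfl) hp] at a2
    rwa [fnWc_eq, ← pt_inj _ hq _ ((mP.ok.fnW_lt (fun _ _ => rfl) p).2 hp) a2]⟩
  rw [h3] at h4
  obtain rfl : j = 0 := by
    by_contra h
    obtain ⟨j, rfl⟩ := Nat.exists_eq_succ_of_ne_zero h
    simp [Nat.testBit_succ] at h4
  exact e.symm
theorem card_cb_le : Nat.card (Subgroup.centralizer {zb}) ≤ 7680 := by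
  have := card_cent_le mP invP (K := stabilizer M24 (sxX 0)) (wsK := LSx.ws) (cs := [[2],[0,1,0],[2,1],[6,1],[],[3,1],[0,0,0],[1,0],[0],[0,1],[5],[5,0,0],[3],[1,5],[3,0],[1,1],[0,0],[1]]) cl_Sx.le (base := [0,3,4]) (t := wb) (n := 18) (m := 7680)
    (by decide +kernel) (by norm_num) card_Sx
  rwa [show wp mg wb = zb from rfl, inf_eq_right.2 cent_zb_le] at this
theorem cl_Cb : cl mg LCb.ws = Subgroup.centralizer {zb} :=
  mP.cl_eq_of_chain (k := 2) (r := 40) (by decide +kernel) (cl_le_cent heP (by decide +kernel)) (card_cb_le.trans (by decide +kernel))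
theorem card_Cb : Nat.card (Subgroup.centralizer {zb}) = 7680 :=
  le_antisymm card_cb_le (cl_Cb ▸ mP.ord_le_card (L := LCb) (k := 2) (r := 40) (by decide +kernel))
def LS3 : Lev := (Lev.cons 0 3 [[3,3,1,1,3,3,0,0,4,1,4,1,3,3]]
  (Lev.cons 1 9 [[4,4,0,0,0,2,0,0,3,2,0,4,0,4,0,4],[3,3,1,3,3,1,1,1,1,1,4,1,3,0,0]]
  Lev.nil))
def wa3 : List ℕ := [3,3,1,1,3,3,0,0,4,1,4,1,3,3]
def wb3 : List ℕ := [3,1,2,3,0,3,2,1,4,1,2,0,3,3]
noncomputable def a3 : M24 := wp mg wa3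
noncomputable def b3 : M24 := wp mg wb3
theorem cnt_a3 : Cnt a3 6 21 20 15 16 := Cnt.of (by decide +kernel) (by decide +kernel) (by decide +kernel) (by decide +kernel) (by decide +kernel)
theorem cnt_b3 : Cnt b3 0 0 14 15 7 := Cnt.of (by decide +kernel) (by decide +kernel) (by decide +kernel) (by decide +kernel) (by decide +kernel)
theorem three_cls {g : M24} (h : orderOf g = 3) : (∃ c, c * a3 * c⁻¹ = g) ∨ ∃ c, c * b3 * c⁻¹ = g := by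
  obtain ⟨r, hr, c, -, e⟩ := classes heP (ws := LS3.ws) (tr := [[],[0],[1],[2],[0,0],[1,0],[2,0],[0,1],[1,1],[2,1],[2,2],[1,0,0],[2,0,0],[0,1,0],[1,1,0],[2,1,0],[2,2,0],[0,0,1],[1,0,1],[0,1,1],[2,1,1],[2,2,1],[1,1,0,0],[2,2,0,0],[1,0,1,0],[0,1,1,0],[2,2,1,1]]) (wsK := ws5) (reps := [[], wa3, wb3])
    (dat := [[(1,[]),(4,[]),(7,[]),(6,[]),(0,[]),(13,[]),(12,[]),(17,[]),(19,[]),(5,[]),(16,[]),(21,[]),(3,[]),(9,[]),(25,[]),(11,[]),(23,[]),(2,[]),(22,[]),(24,[]),(18,[]),(15,[]),(20,[]),(10,[]),(8,[]),(26,[]),(14,[])],[(2,[]),(5,[]),(8,[]),(9,[]),(11,[]),(14,[]),(15,[]),(18,[]),(0,[]),(20,[]),(21,[]),(22,[]),(17,[]),(24,[]),(1,[]),(19,[]),(7,[]),(25,[]),(16,[]),(6,[]),(3,[]),(26,[]),(4,[]),(13,[]),(23,[]),(12,[]),(10,[])],[(3,[]),(6,[]),(9,[]),(10,[]),(12,[]),(15,[]),(16,[]),(5,[]),(20,[]),(21,[]),(0,[]),(17,[]),(23,[]),(11,[]),(19,[]),(7,[]),(1,[]),(13,[]),(14,[]),(18,[]),(26,[]),(2,[]),(25,[]),(4,[]),(22,[]),(24,[]),(8,[])]])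 (by decide +kernel)
    (cj := [([],0),([],1),([3,1,3,0,0,4,4,2,0],1),([0,3,0,0,3,1,3,1,3],1),([0,0,3,3,1,3,2,1,4,0],1),([1,3,1,3,0,0,4,2,1,1],2),([0,3,1,3,0,3,1,1,3,1],1),([2,0,3,3,1,4,0,4,4],2),([4,1,1,4,1,4,1,3,0,3,2],1),([2,0,0,3,3,1,3,2,1,4,0],1),([3,0,4,1,4,4,1,1,1],1),([1,4,0,4,0,0,4,0,3,0,2],2),([3,2,1,3,0,0,4,4,2,0],1),([4,4,1,4,4,0,0,0,0,0,0,3],2),([2,1,3,2,0,0,3,1,1],2),([4,1,1,3,1,4,2,0,4,2],2),([4,1,4,1,4,1,1,1,1,3],1),([4,0,3,2,1,3,3,1,1,1,1,3],2),([1,3,2,0,0,3,1,1],2),([3,1,1,4,2,1,4,1,3,1],2),([2,0,3,1,3,0,3,1,1,3,1],1),([2,0,3,2,1,3,2,1,1,4,0],1),([0,3,3,1,4,0,4,4],2),([0,3,2,1,3,2,1,1,4,0],1),([0,4,2,1,1,3,1,1,4,2,0],2),([4,2,1,1,3,1,4,2,0,4,2],2),([2],1)]) (by decide +kernel) (K := ⊤) (p := 3) (k := 3) (m := 9067520) (by norm_num) le_top le_top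
    (mP.ord_le_card (L := LS3) (k := 2) (r := 40) (by decide +kernel)) rfl (by rw [Subgroup.card_top, card_M24]; norm_num) (by norm_num)
    (Subgroup.mem_top g) (j := 1) (by rw [pow_one, ← h, pow_orderOf_eq_one])
  simp only [List.mem_cons, List.not_mem_nil, or_false] at hr
  rcases hr with rfl | rfl | rfl
  · obtain rfl : g = 1 := by rw [← e]; simp [wp]
    simp at h
  · exact Or.inl ⟨c, e⟩
  · exact Or.inr ⟨c, e⟩
theorem three_cnt {g : M24} (h : orderOf g = 3) : Cnt g 6 21 20 15 16 ∨ Cnt g 0 0 14 15 7 :=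
  (three_cls h).imp (fun ⟨c, e⟩ => e ▸ cnt_a3.conj c) fun ⟨c, e⟩ => e ▸ cnt_b3.conj c
theorem ord_a3 : orderOf a3 = 3 := by
  haveI := Fact.mk Nat.prime_three
  exact orderOf_eq_prime (by rw [a3, ← wp_lpow]; exact heP _ [] (by decide +kernel)) (mP.ne_one_of_mp (p := 0) (by decide +kernel))
theorem ord_b3 : orderOf b3 = 3 := by
  haveI := Fact.mk Nat.prime_three
  exact orderOf_eq_prime (by rw [b3, ← wp_lpow]; exact heP _ [] (by decide +kernel)) (mP.ne_one_of_mp (p := 0) (by decide +kernel))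
theorem b3_mem : b3 ∈ Subgroup.centralizer {zb} :=
  cl_le_cent heP (ws := [wb3]) (by decide +kernel) (wp_mem_cl (by simp))
def w7 : List ℕ := [2,0,0,4,0,0,3,3,0,0,4,4,0,0,3,2]
def LN7 : Lev := (Lev.cons 0 3 [[1,3,1,1,2,4,1,1,4,1,1,1,3,0,4,4]]
  (Lev.cons 1 7 [[1,1,1,4,1,4,1,3,3,1,3,3,0,3]]
  (Lev.cons 2 3 [[4,2,0,4,1,4,1,4,2,1,3,1,4,0,4,0,0]]
  (Lev.cons 4 2 [[1,3,0,0,0,4,1,4,4,0,0,4,0,0,4]]
  Lev.nil))))
def LC7 : Lev := (Lev.cons 0 3 [[0,3,1,2,4,1,1,4,0,0,4,4,1,1,2]]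
  (Lev.cons 1 7 [[1,3,2,0,4,1,3,1,2,0,4,1,1,3,3,0,0]]
  (Lev.cons 4 2 [[1,3,0,0,0,4,1,4,4,0,0,4,0,0,4]]
  Lev.nil)))
theorem card_S7 : Nat.card (cl mg [w7]) = 7 := by
  refine le_antisymm (card_enum heP (tr := [[],[0],[0,0],[0,0,0],[0,0,0,0],[0,0,0,0,0],[0,0,0,0,0,0]]) (dat := [[(1,[]),(2,[]),(3,[]),(4,[]),(5,[]),(6,[]),(0,[])]]) (by decide +kernel)) ?_
  exact mP.ord_le_card (L := Lev.cons 1 7 [w7] Lev.nil) (k := 2) (r := 40) (by decide +kernel)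
theorem norm_inv {G : Type*} [Group G] {gens : ℕ → G} {ws : List (List ℕ)} {g : G}
    (hg : g ∈ Subgroup.normalizer (cl gens ws : Set G)) : ∀ w ∈ ws, g⁻¹ * wp gens w * g ∈ cl gens ws := fun w hw => by
  have := (Subgroup.mem_normalizer_iff.1 (inv_mem hg) _).1 (wp_mem_cl hw)
  rwa [inv_inv] at this
theorem N7_le : Subgroup.normalizer (cl mg [w7] : Set M24) ≤ stabilizer M24 (trX 0) ⊓ stabilizer M24 (tpX 91) := fun g hg =>
  ⟨fix_of_uniq mTr (k := 12) (A := 2 ^ 3795 - 1) (by decide +kernel) (by rw [pts_full]; exact inv_of_trans mTr tTr g) (norm_inv hg),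
   fix_of_uniq mTp (k := 11) (A := 2 ^ 2024 - 1) (by decide +kernel) (by
    rw [pts_full, rng_tpX]
    show (g • tpX 91).card = 3
    rw [card_smul_finset]; exact (Set.ext_iff.1 rng_tpX _).1 ⟨91, by norm_num, rfl⟩) (norm_inv hg)⟩
theorem card_K7 : Nat.card ↥(stabilizer M24 (trX 0) ⊓ stabilizer M24 (tpX 91)) = 126 :=
  card_child mTp cl_Tr (k := 8) (r := 40) (n := 512) (by decide +kernel) (by norm_num) card_Tr
theorem le_N7 : cl mg LN7.ws ≤ Subgroup.normalizer (cl mg [w7] : Set M24) :=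
  le_normalizer_of_normChk heP (dat := [[[0]],[[0,0]],[[0,0]],[[0]]]) (by decide +kernel)
theorem card_N7 : Nat.card (Subgroup.normalizer (cl mg [w7] : Set M24)) = 126 :=
  le_antisymm (card_K7 ▸ Subgroup.card_le_of_le N7_le)
    ((mP.ord_le_card (L := LN7) (k := 2) (r := 40) (by decide +kernel)).trans (Subgroup.card_le_of_le le_N7))
theorem le_C7 : cl mg LC7.ws ≤ Subgroup.centralizer (cl mg [w7] : Set M24) := fun g hg h hh =>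
  (commute_of_commChk heP (by decide +kernel) g hg h hh).symm
theorem card_C7 : Nat.card (Subgroup.centralizer (cl mg [w7] : Set M24)) = 42 := by
  refine le_antisymm ?_ ((mP.ord_le_card (L := LC7) (k := 2) (r := 40) (by decide +kernel)).trans (Subgroup.card_le_of_le le_C7))
  refine le_trans (Subgroup.card_le_of_le (le_inf (Subgroup.centralizer_le_normalizer _) (Subgroup.centralizer_le ?_)))
    (card_cent_le mP invP (cs := [[],[1,1],[1]]) le_N7 (base := [1]) (t := w7) (n := 3) (by decide +kernel) (by norm_num) card_N7)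
  simpa using wp_mem_cl (by simp)
theorem nc_C7 : ∃ x ∈ Subgroup.centralizer (cl mg [w7] : Set M24), ∃ y ∈ Subgroup.centralizer (cl mg [w7] : Set M24), x * y ≠ y * x := by
  refine ⟨_, le_C7 (wp_sel_mem _ [0]), _, le_C7 (wp_sel_mem _ [1]), fun e => ?_⟩
  rw [← wp_lapp, ← wp_lapp] at e
  have := fnW_congr mP e (i := 0) (by norm_num)
  rw [← fnWc_eq, ← fnWc_eq] at this
  revert this; decide +kernel
def LS2 : Lev := (Lev.cons 0 8 [[2,1,4,4,2,0,2,1,1,4,2,0,3,2,1,4,4]]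
  (Lev.cons 1 4 [[0,2,0,0,3,3,0,4,0,2,1,1,1,1,4]]
  (Lev.cons 2 2 [[3,0,4,1,1,3,0,3,1,3,1,3,0,3]]
  (Lev.cons 4 16 [[1,3,0,0,0,4,1,4,4,0,0,4,0,0,4],[3,1,1,3,0,0,3,0,3,0,4,4,0,3,3],[4,2,1,4,1,1,3,0,0,0,0,3,3,1,2],[1,3,3,0,3,3,1,4,1,1,1,3,0,0]]
  Lev.nil))))
def SLS2 : SLev := (SLev.cons [[2,1,4,4,2,0,2,1,1,4,2,0,3,2,1,4,4]] [[],[0],[1,0],[0,1,0],[1,1,0],[2,1,0],[1,0,1,0],[0,1,1,0]]
  [[(1,[]),(0,[1,1]),(3,[]),(2,[4,3]),(7,[]),(6,[5,0,1]),(5,[2,0,1,2]),(4,[5])],[(0,[0]),(2,[]),(4,[]),(6,[]),(5,[1]),(1,[1,1,1]),(3,[0,0]),(7,[4,2,0])],[(0,[1]),(1,[3,1,2]),(5,[]),(6,[1,1,0,1]),(4,[4,2,1]),(2,[4,3]),(3,[0,1]),(7,[1,4,2])],[(0,[2]),(1,[3]),(2,[2]),(3,[4,1,1]),(4,[4,1,1]),(5,[5,4]),(6,[2]),(7,[5,4,1,1])],[(0,[3]),(1,[2]),(2,[4,1,1]),(3,[2]),(4,[5,4,1,1]),(5,[5,3]),(6,[5,2]),(7,[4,1,1])],[(0,[4]),(1,[4,1,1]),(2,[5,4,1,1]),(3,[5,2]),(4,[3]),(5,[5,2]),(6,[4]),(7,[5,3])],[(0,[5]),(1,[5]),(2,[5,4,2]),(3,[5,4,2]),(4,[1,1]),(5,[5,4,2]),(6,[1,1]),(7,[1,1])]]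
  (SLev.cons [[0,2,0,0,3,3,0,4,0,2,1,1,1,1,4]] [[],[0],[0,0],[1,0]]
  [[(1,[]),(2,[]),(3,[2,0,1]),(0,[4,0])],[(0,[0]),(3,[]),(2,[0,3,1]),(1,[3,2])],[(0,[1]),(1,[2]),(2,[3]),(3,[4,3,0,0])],[(0,[2]),(1,[3]),(2,[4,3]),(3,[4,1])],[(0,[3]),(1,[4,3]),(2,[1]),(3,[4,2])],[(0,[4]),(1,[4,3,1]),(2,[0,0]),(3,[4,3,1])]]
  (SLev.cons [[3,0,4,1,1,3,0,3,1,3,1,3,0,3]] [[],[0]]
  [[(1,[]),(0,[1,0])],[(0,[0]),(1,[3,0])],[(0,[1]),(1,[3,1])],[(0,[2]),(1,[2,1,0])],[(0,[3]),(1,[3])]]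
  (SLev.cons [[1,3,0,0,0,4,1,4,4,0,0,4,0,0,4],[3,1,1,3,0,0,3,0,3,0,4,4,0,3,3],[4,2,1,4,1,1,3,0,0,0,0,3,3,1,2],[1,3,3,0,3,3,1,4,1,1,1,3,0,0]] [[],[0],[1],[2],[3],[1,0],[2,0],[3,0],[2,1],[3,1],[3,2],[2,1,0],[3,1,0],[3,2,0],[3,2,1],[3,2,1,0]]
  [[(1,[]),(0,[]),(5,[]),(6,[]),(7,[]),(2,[]),(3,[]),(4,[]),(11,[]),(12,[]),(13,[]),(8,[]),(9,[]),(10,[]),(15,[]),(14,[])],[(2,[]),(5,[]),(0,[]),(8,[]),(9,[]),(1,[]),(11,[]),(12,[]),(3,[]),(4,[]),(14,[]),(6,[]),(7,[]),(15,[]),(10,[]),(13,[])],[(3,[]),(6,[]),(8,[]),(0,[]),(10,[]),(11,[]),(1,[]),(13,[]),(2,[]),(14,[]),(4,[]),(5,[]),(15,[]),(7,[]),(9,[]),(12,[])],[(4,[]),(7,[]),(9,[]),(10,[]),(0,[]),(12,[]),(13,[]),(1,[]),(14,[]),(2,[]),(3,[]),(15,[]),(5,[]),(6,[]),(8,[]),(11,[])]]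
  SLev.nil))))
theorem card_B2 : Nat.card ↥(stabilizer M24 (cw 47) ⊓ stabilizer M24 (trX 0) ⊓ stabilizer M24 (sxX 1590)) = 3072 :=
  card_child mSx cl_OT (k := 8) (r := 40) (n := 7) (by decide +kernel) (by norm_num) card_OT
theorem N2_le : Subgroup.normalizer (cl mg LS2.ws : Set M24) ≤ stabilizer M24 (cw 47) ⊓ stabilizer M24 (trX 0) ⊓ stabilizer M24 (sxX 1590) := fun g hg =>
  ⟨⟨fix_of_uniq mC (k := 12) (A := wt8) (by decide +kernel) (by rw [pts_wt8]; exact smul_mem_octads g (cw_o0 ▸ o0_mem)) (norm_inv hg),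
   fix_of_uniq mTr (k := 12) (A := 2 ^ 3795 - 1) (by decide +kernel) (by rw [pts_full]; exact inv_of_trans mTr tTr g) (norm_inv hg)⟩,
   fix_of_uniq mSx (k := 11) (A := 2 ^ 1771 - 1) (by decide +kernel) (by
    rw [pts_full, rng_sxX]; exact smul_mem_sextets g (rng_sxX ▸ ⟨1590, by norm_num, rfl⟩)) (norm_inv hg)⟩
theorem card_S2 : Nat.card (cl mg LS2.ws) = 1024 :=
  le_antisymm (SLev.card_le heP (L := SLS2) (by decide +kernel)).2 (mP.ord_le_card (L := LS2) (k := 2) (r := 40) (by decide +kernel))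
theorem N2_ne : Subgroup.normalizer (cl mg LS2.ws : Set M24) ≠ stabilizer M24 (cw 47) ⊓ stabilizer M24 (trX 0) ⊓ stabilizer M24 (sxX 1590) := by
  intro e
  have hb : wp mg [3,0,0,4,1,3,0,3,2,1,4,0,3,2,0] ∈ Subgroup.normalizer (cl mg LS2.ws : Set M24) := by
    rw [e]
    refine (show cl mg [[3,0,0,4,1,3,0,3,2,1,4,0,3,2,0]] ≤ _ from le_inf (le_inf (mC.cl_le_stab (by decide +kernel)) (mTr.cl_le_stab (by decide +kernel))) (mSx.cl_le_stab (by decide +kernel))) (wp_mem_cl (by simp))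
  have h1 := (Subgroup.mem_normalizer_iff.1 hb _).1 (wp_sel_mem LS2.ws [1])
  rw [← wp_invw invP, ← wp_lapp, ← wp_lapp] at h1
  have h2 := mPr.toIsPre.cl_le_stab_pts (ws := LS2.ws) (wsok_vT _) (M := 0x40008020000000000000000000000001) (by decide +kernel) h1
  have h3 := Set.smul_mem_smul_set (a := wp mg (lapp (lapp [3,0,0,4,1,3,0,3,2,1,4,0,3,2,0] (sel LS2.ws [1])) (invw (iota [1, 0, 2, 4, 3]) [3,0,0,4,1,3,0,3,2,1,4,0,3,2,0]))) ((mPr.mem_pts (M := 0x40008020000000000000000000000001) (i := 0) (by norm_num)).2 (by decide +kernel))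
  rw [h2, mPr.toIsPre.smul_of_mapChk (q := 131) (by decide +kernel), mPr.mem_pts (by norm_num)] at h3
  revert h3; decide +kernel
theorem N2_eq : Subgroup.normalizer (cl mg LS2.ws : Set M24) = cl mg LS2.ws := by
  have h1 := Subgroup.card_dvd_of_le N2_le
  have h2 := Subgroup.card_dvd_of_le (Subgroup.le_normalizer (H := cl mg LS2.ws))
  have h4 : Nat.card (Subgroup.normalizer (cl mg LS2.ws : Set M24)) ≠ 3072 := fun e =>
    N2_ne (Subgroup.eq_of_le_of_card_ge N2_le (by rw [e, card_B2]))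
  rw [card_B2] at h1
  rw [card_S2] at h2
  obtain ⟨c, hc⟩ := h2
  rw [hc, show 3072 = 1024 * 3 from rfl, Nat.mul_dvd_mul_iff_left (by norm_num), Nat.dvd_prime Nat.prime_three] at h1
  exact (Subgroup.eq_of_le_of_card_ge Subgroup.le_normalizer (by rw [card_S2]; omega)).symm
theorem zb_eq : zb = wp mg wb := rfl
attribute [irreducible] zb a3 b3

end Cfsg.Agent.St
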