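import Cfsg.Agent.H6.J3A
import Cfsg.Agent.H6.Simp3
set_option maxRecDepth 100000
set_option Elab.async false
namespace Cfsg.Agent.H6.JN
open Cfsg.Agent.H6
universe u

noncomputable def il : List ℕ := [0,1,2,3,4]
noncomputable abbrev io : ℕ → ℕ := iota il
noncomputable def C1 : List (List ℕ) := []
noncomputable def r0 : List ℕ := [0,1,0,1,0,1]
noncomputable def r1 : List ℕ := [0,2,0,2]
noncomputable def r2 : List ℕ := [0,3,0,3]
noncomputable def r3 : List ℕ := [0,4,0,4]
noncomputable def r4 : List ℕ := [1,2,1,2,1,2,1,2,1,2]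
noncomputable def r5 : List ℕ := [1,3,1,3]
noncomputable def r6 : List ℕ := [1,4,1,4]
noncomputable def r7 : List ℕ := [2,3,2,3,2,3]
noncomputable def r8 : List ℕ := [2,4,2,4]
noncomputable def r9 : List ℕ := [3,4,3,4,3,4,3,4,3,4]
noncomputable def r10 : List ℕ := [0,1,2,0,1,2,0,1,2,0,1,2,0,1,2]
noncomputable def r11 : List ℕ := [1,2,3,1,2,3,1,2,3,1,2,3,1,2,3]
noncomputable def r12 : List ℕ := [0,2,3,4,2,3,4,2,3,4,2,3,4,2,3,4]
noncomputable def m2n1 : Net := (Net.cons (nat_lit 1) (nat_lit 1)
  Net.nil)
noncomputable def m2l : List Net := [Net.nil,m2n1]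
noncomputable abbrev m2 : ℕ → Net := lk Net.nil m2l
theorem m2ok : NetsOk 2 m2 vT := netsOk_of (by decide +kernel)
theorem m2s0 : Sat io [] (finG m2ok) := fin_sat_nil _ (k := 1) (n := 5) (by decide +kernel)
noncomputable def C3 : List (List ℕ) := []
theorem cl4 : Clo.{u} io C3 [] 2 m2 1 (mkB []) := Clo.start (by decide +kernel)
theorem imp5 : Imp.{u} io C3 C1 := Imp.of_chk (pfs := []) (by decide +kernel)
theorem ix6 : Idx.{u} io C3 [] [] 1 := (Idx.triv (Bound.nil) (by norm_num)).of_imp imp5
noncomputable def lk7 : List (List ℕ × List ℕ × Pf) := []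
noncomputable def O8 : ℕ := (nat_lit 2)
noncomputable def M9 : ℕ := (nat_lit 3)
noncomputable def b10 : ℕ := (nat_lit 1)
theorem cl11 : Clo.{u} io C3 [] 2 m2 M9 (mkB [(1,b10)]) := cl4.new (k := 0) (b := 1) (q := 0) (p := 1) (r := 200) (n := 1) (O := O8) (by decide +kernel) (lks := lk7) (by decide +kernel) (gens_of_lall2 (m := []) (by decide +kernel)) ix6 (by decide +kernel)
noncomputable def b12 : ℕ := (nat_lit 3)
theorem cl13 : Clo.{u} io C3 [] 2 m2 M9 (mkB [(1,b12)]) := cl11.ops (os := [Op.inv 1]) (by decide +kernel) (by decide +kernel)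
theorem sat15 : Sat io C3 (finG m2ok) := m2s0.fin (k := 1) (by decide +kernel)
theorem bd14 : Bound.{u} io C3 [1] 2 := cl13.bound (by decide +kernel) sat15 ((Bound.nil).of_imp imp5)
noncomputable def m16n1 : Net := (Net.cons (nat_lit 1) (nat_lit 10)
  Net.nil)
noncomputable def m16n2 : Net := (Net.cons (nat_lit 1) (nat_lit 5)
  Net.nil)
noncomputable def m16l : List Net := [Net.nil,m16n1,m16n2]
noncomputable abbrev m16 : ℕ → Net := lk Net.nil m16l
theorem m16ok : NetsOk 5 m16 vT := netsOk_of (by decide +kernel)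
theorem m16s0 : Sat io [] (finG m16ok) := fin_sat_nil _ (k := 3) (n := 5) (by decide +kernel)
noncomputable def C17 : List (List ℕ) := [r4]
theorem cl18 : Clo.{u} io C17 [1] 5 m16 1 (mkB []) := Clo.start (by decide +kernel)
theorem imp19 : Imp.{u} io C17 C3 := Imp.of_chk (pfs := []) (by decide +kernel)
theorem ix20 : Idx.{u} io C17 [1] [] 2 := (Idx.triv bd14 (by norm_num)).of_imp imp19
noncomputable def lk21 : List (List ℕ × List ℕ × Pf) := []
noncomputable def O22 : ℕ := (nat_lit 6)
noncomputable def M23 : ℕ := (nat_lit 7)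
noncomputable def b24 : ℕ := (nat_lit 1)
theorem cl25 : Clo.{u} io C17 [1] 5 m16 M23 (mkB [(2,b24)]) := cl18.new (k := 0) (b := 2) (q := 0) (p := 1) (r := 200) (n := 2) (O := O22) (by decide +kernel) (lks := lk21) (by decide +kernel) (gens_of_lall2 (m := []) (by decide +kernel)) ix20 (by decide +kernel)
noncomputable def b26 : ℕ := (nat_lit 3)
theorem cl27 : Clo.{u} io C17 [1] 5 m16 M23 (mkB [(2,b26)]) := cl25.ops (os := [Op.inv 2]) (by decide +kernel) (by decide +kernel)
theorem ix28 : Idx.{u} io C17 [1] [] 2 := (Idx.triv bd14 (by norm_num)).of_imp imp19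
noncomputable def lk29 : List (List ℕ × List ℕ × Pf) := []
noncomputable def O30 : ℕ := (nat_lit 24)
noncomputable def M31 : ℕ := (nat_lit 31)
noncomputable def b32 : ℕ := (nat_lit 7)
theorem cl33 : Clo.{u} io C17 [1] 5 m16 M31 (mkB [(2,b32)]) := cl27.new (k := 0) (b := 2) (q := 2) (p := 3) (r := 200) (n := 2) (O := O30) (by decide +kernel) (lks := lk29) (by decide +kernel) (gens_of_lall2 (m := []) (by decide +kernel)) ix28 (by decide +kernel)
noncomputable def b34 : ℕ := (nat_lit 31)
theorem cl35 : Clo.{u} io C17 [1] 5 m16 M31 (mkB [(2,b34)]) := cl33.ops (os := [Op.inv 2,Op.rel 2 [1] 2 [1,2,1,2,1,2,1] [([],1)]]) (by decide +kernel) (by decide +kernel)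
theorem sat37 : Sat io C17 (finG m16ok) := m16s0.fin (k := 3) (by decide +kernel)
theorem bd36 : Bound.{u} io C17 [1,2] 10 := cl35.bound (by decide +kernel) sat37 (bd14.of_imp imp19)
noncomputable def m38n0 : Net := (Net.cons (nat_lit 1) (nat_lit 16)
  (Net.cons (nat_lit 1) (nat_lit 1)
  Net.nil))
noncomputable def m38n1 : Net := (Net.cons (nat_lit 1) (nat_lit 2)
  (Net.cons (nat_lit 1) (nat_lit 8)
  Net.nil))
noncomputable def m38n2 : Net := (Net.cons (nat_lit 3) (nat_lit 6)
  (Net.cons (nat_lit 1) (nat_lit 8)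
  (Net.cons (nat_lit 1) (nat_lit 18)
  (Net.cons (nat_lit 1) (nat_lit 8)
  (Net.cons (nat_lit 3) (nat_lit 6)
  Net.nil)))))
noncomputable def m38l : List Net := [m38n0,m38n1,m38n2]
noncomputable abbrev m38 : ℕ → Net := lk Net.nil m38l
theorem m38ok : NetsOk 6 m38 vT := netsOk_of (by decide +kernel)
theorem m38s0 : Sat io [] (finG m38ok) := fin_sat_nil _ (k := 3) (n := 5) (by decide +kernel)
noncomputable def C39 : List (List ℕ) := [r0,r1,r4,r10]
theorem cl40 : Clo.{u} io C39 [1,2] 6 m38 1 (mkB []) := Clo.start (by decide +kernel)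
theorem imp41 : Imp.{u} io C39 C17 := Imp.of_chk (pfs := [[([],5)]]) (by decide +kernel)
theorem der43 : Der 5 (finX 5) (cl (finG m16ok) [[2]]) (fun _ => Net.nil) := Der.zero (finModel m16ok).inj
noncomputable def ns44 : ℕ → Net := upd (fun _ => Net.nil) 0 (m16 2)
theorem der45 : Der 5 (finX 5) (cl (finG m16ok) [[2]]) ns44 := der43.add (wp_mem_cl (w := [2]) (by decide)) (rep_letter (finModel m16ok) 2) 0
noncomputable def L46 : Lev := Lev.cons 0 2 [[0]] Lev.nil
theorem lc47 : Lev.chk 5 0 ns44 vT 100 L46 = true := by decide +kernel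
theorem lb48 : 2 ≤ Nat.card (cl (finG m16ok) [[2]]) := le_of_eq_of_le (by decide +kernel) (der45.card_ge lc47)
theorem ix42 : Idx.{u} io C39 [1,2] [[2]] 5 := (Idx.of bd36 sat37 (by decide +kernel) lb48 (by decide +kernel)).of_imp imp41
noncomputable def lk49 : List (List ℕ × List ℕ × Pf) := [([2],[2],[([0],3)])]
noncomputable def O50 : ℕ := (nat_lit 62)
noncomputable def M51 : ℕ := (nat_lit 63)
noncomputable def b52 : ℕ := (nat_lit 1)
theorem cl53 : Clo.{u} io C39 [1,2] 6 m38 M51 (mkB [(0,b52)]) := cl40.new (k := 0) (b := 0) (q := 0) (p := 1) (r := 200) (n := 5) (O := O50) (by decide +kernel) (lks := lk49) (by decide +kernel) (gens_of_lall2 (m := [[0]]) (by decide +kernel)) ix42 (by decide +kernel)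
noncomputable def b54 : ℕ := (nat_lit 63)
theorem cl55 : Clo.{u} io C39 [1,2] 6 m38 M51 (mkB [(0,b54)]) := cl53.ops (os := [Op.inv 0,Op.rel 0 [1] 0 [1,0,1] [([0],1)],Op.ext 0 2 [([2],[2],[([0],3)])],Op.rel 0 [1,2] 0 [2,1,0,2,1,0,2,1,0,2,1] [([0],7)],Op.ext 0 2 [([2],[2],[([0],3)])]]) (by decide +kernel) (by decide +kernel)
theorem sat57 : Sat io C39 (finG m38ok) := m38s0.fin (k := 3) (by decide +kernel)
theorem bd56 : Bound.{u} io C39 [0,1,2] 60 := cl55.bound (by decide +kernel) sat57 (bd36.of_imp imp41)
noncomputable def m58n0 : Net := (Net.cons (nat_lit 6) (nat_lit 32)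
  (Net.cons (nat_lit 3) (nat_lit 448)
  (Net.cons (nat_lit 1) (nat_lit 512)
  (Net.cons (nat_lit 1) (nat_lit 1152)
  (Net.cons (nat_lit 1) (nat_lit 72)
  (Net.cons (nat_lit 6) (nat_lit 32)
  Net.nil))))))
noncomputable def m58n1 : Net := (Net.cons (nat_lit 6) (nat_lit 32)
  (Net.cons (nat_lit 3) (nat_lit 68)
  (Net.cons (nat_lit 1) (nat_lit 520)
  (Net.cons (nat_lit 1) (nat_lit 1168)
  (Net.cons (nat_lit 1) (nat_lit 72)
  (Net.cons (nat_lit 3) (nat_lit 388)
  (Net.cons (nat_lit 6) (nat_lit 32)
  Net.nil)))))))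
noncomputable def m58n2 : Net := (Net.cons (nat_lit 6) (nat_lit 22)
  (Net.cons (nat_lit 3) (nat_lit 386)
  (Net.cons (nat_lit 1) (nat_lit 8)
  (Net.cons (nat_lit 1) (nat_lit 1042)
  (Net.cons (nat_lit 1) (nat_lit 72)
  (Net.cons (nat_lit 3) (nat_lit 386)
  (Net.cons (nat_lit 6) (nat_lit 22)
  Net.nil)))))))
noncomputable def m58n3 : Net := (Net.cons (nat_lit 6) (nat_lit 32)
  (Net.cons (nat_lit 3) (nat_lit 448)
  (Net.cons (nat_lit 1) (nat_lit 1152)
  (Net.cons (nat_lit 1) (nat_lit 1)
  (Net.cons (nat_lit 6) (nat_lit 32)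
  Net.nil)))))
noncomputable def m58l : List Net := [m58n0,m58n1,m58n2,m58n3]
noncomputable abbrev m58 : ℕ → Net := lk Net.nil m58l
theorem m58ok : NetsOk 11 m58 vT := netsOk_of (by decide +kernel)
theorem m58s0 : Sat io [] (finG m58ok) := fin_sat_nil _ (k := 4) (n := 5) (by decide +kernel)
noncomputable def C59 : List (List ℕ) := [r0,r1,r2,r4,r5,r7,r10,r11]
theorem cl60 : Clo.{u} io C59 [0,1,2] 11 m58 1 (mkB []) := Clo.start (by decide +kernel)
theorem imp61 : Imp.{u} io C59 C39 := Imp.of_chk (pfs := [[([],1)],[([],3)],[([],7)],[([],13)]]) (by decide +kernel)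
theorem der63 : Der 6 (finX 6) (cl (finG m38ok) [[0],[1]]) (fun _ => Net.nil) := Der.zero (finModel m38ok).inj
noncomputable def ns64 : ℕ → Net := upd (fun _ => Net.nil) 0 (m38 0)
theorem der65 : Der 6 (finX 6) (cl (finG m38ok) [[0],[1]]) ns64 := der63.add (wp_mem_cl (w := [0]) (by decide)) (rep_letter (finModel m38ok) 0) 0
noncomputable def ns66 : ℕ → Net := upd ns64 1 (m38 1)
theorem der67 : Der 6 (finX 6) (cl (finG m38ok) [[0],[1]]) ns66 := der65.add (wp_mem_cl (w := [1]) (by decide)) (rep_letter (finModel m38ok) 1) 1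
noncomputable def L68 : Lev := Lev.cons 1 2 [[1]] Lev.nil
noncomputable def L69 : Lev := Lev.cons 0 3 [[0]] L68
theorem lc70 : Lev.chk 6 0 ns66 vT 100 L69 = true := by decide +kernel
theorem lb71 : 6 ≤ Nat.card (cl (finG m38ok) [[0],[1]]) := le_of_eq_of_le (by decide +kernel) (der67.card_ge lc70)
theorem ix62 : Idx.{u} io C59 [0,1,2] [[0],[1]] 10 := (Idx.of bd56 sat57 (by decide +kernel) lb71 (by decide +kernel)).of_imp imp61
noncomputable def lk72 : List (List ℕ × List ℕ × Pf) := [([0],[0],[([],5)]),([1],[1],[([],9)])]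
noncomputable def O73 : ℕ := (nat_lit 2046)
noncomputable def M74 : ℕ := (nat_lit 2047)
noncomputable def b75 : ℕ := (nat_lit 1)
theorem cl76 : Clo.{u} io C59 [0,1,2] 11 m58 M74 (mkB [(3,b75)]) := cl60.new (k := 1) (b := 3) (q := 0) (p := 1) (r := 200) (n := 10) (O := O73) (by decide +kernel) (lks := lk72) (by decide +kernel) (gens_of_lall2 (m := [[0],[1]]) (by decide +kernel)) ix62 (by decide +kernel)
noncomputable def b77 : ℕ := (nat_lit 2047)
theorem cl78 : Clo.{u} io C59 [0,1,2] 11 m58 M74 (mkB [(3,b77)]) := cl76.ops (os := [Op.inv 3,Op.rel 3 [2] 3 [2,3,2] [([],11)],Op.ext 3 3 [([0],[0],[([],5)]),([1],[1],[([],9)])],Op.rel 3 [1,2] 3 [2,1,3,2,1,3,2,1,3,2,1] [([],15)],Op.ext 3 3 [([0],[0],[([],5)]),([1],[1],[([],9)])]]) (by decide +kernel) (by decide +kernel)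
theorem sat80 : Sat io C59 (finG m58ok) := m58s0.fin (k := 4) (by decide +kernel)
theorem bd79 : Bound.{u} io C59 [0,1,2,3] 660 := cl78.bound (by decide +kernel) sat80 (bd56.of_imp imp61)
noncomputable def m81n0 : Net := (Net.cons (nat_lit 160) (nat_lit 0x5e1f2f1b19000000000000000000000000000000)
  (Net.cons (nat_lit 80) (nat_lit 0xbfbfaf423f8784e1d10000000000000000000000e0cd97600089591c0000)
  (Net.cons (nat_lit 40) (nat_lit 0x831ce2eb2100000000004a72dfb3e100000000009dcd9660900000000000f0f91c1800)
  (Net.cons (nat_lit 20) (nat_lit 0x46a6a0000080419000000d800000004c10400000c00400000071b60000003833c0000039800)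
  (Net.cons (nat_lit 10) (nat_lit 0x362002be0028a000d80003a000400013500000002d10000000186003ac00310000e1003e000240)
  (Net.cons (nat_lit 5) (nat_lit 0x381a0780b0401b06817038140781a0200000c1e00810048100601907c0403010060020600a02000)
  (Net.cons (nat_lit 1) (nat_lit 0x80000000000000000014000800000000000000000001000000242000000000000802000000480)
  (Net.cons (nat_lit 1) (nat_lit 0x5014a12048008000014a02840500001000a0000050000029400294a5000202800001405000002940)
  (Net.cons (nat_lit 1) (nat_lit 0x290a4290852148420084014a4200a4280242048029080094a0014a52848509084000a029000094a0)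
  (Net.cons (nat_lit 1) (nat_lit 0x5214a5094a408421094a02848521421204a5090052100529421294a5290252902001485280252940)
  (Net.cons (nat_lit 1) (nat_lit 0x2108401080200a40100029405094a4010a008004010840900000081014250808400080210a008480)
  (Net.cons (nat_lit 5) (nat_lit 0x6808010080400001000038140781a02000010100081004810040060480403010000020600a02000)
  (Net.cons (nat_lit 10) (nat_lit 0x160000980028a000d80003a000400019400000002900000000186000a80021000020003e000240)
  (Net.cons (nat_lit 20) (nat_lit 0xe10480000000428000000d800000002401000000c00400000071b6000000383180000039800)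
  (Net.cons (nat_lit 40) (nat_lit 0x8118e2ea0000000000004a72d191e000000000009dcd966090000000000070b90c1800)
  (Net.cons (nat_lit 80) (nat_lit 0xbfbfaf423f8784e1d10000000000000000000000e0cd97600089591c0000)
  (Net.cons (nat_lit 160) (nat_lit 0x5e1f2f1b19000000000000000000000000000000)
  Net.nil)))))))))))))))))
noncomputable def m81n1 : Net := (Net.cons (nat_lit 160) (nat_lit 0xae464da566000000000000000000000000000000)
  (Net.cons (nat_lit 80) (nat_lit 0xa7c45d77f6140028c0000000000000000000000014e46a60a02a483c3000)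
  (Net.cons (nat_lit 40) (nat_lit 0x85855e8400000000000067c9c303d8000000000075c7a952a800000000006731230880)
  (Net.cons (nat_lit 20) (nat_lit 0x68400000008311600000fafe000000f22000000002200000007ff0c000001b34a000006b280)
  (Net.cons (nat_lit 10) (nat_lit 0x21003dc0020000280003c6000ed003dc0010000317000c00015a0029a0025000110002f700168)
  (Net.cons (nat_lit 5) (nat_lit 0x701404009078100681e00802054130701e0100301012014020300a050000740c0140c06802)
  (Net.cons (nat_lit 1) (nat_lit 0x400000a408004014000000000001090010040000024000000008008000000040002000000)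
  (Net.cons (nat_lit 1) (nat_lit 0x528005014a5000a12840000480014a5280a0280a0294a0014000942501400000a5014010000)
  (Net.cons (nat_lit 1) (nat_lit 0x429004210a521405294a0000840008421424210052108500485014a5200802008528084290a4)
  (Net.cons (nat_lit 1) (nat_lit 0x2008528025094a5280a12842401425014a5284a528424294a5294a12942509405090a5214212142)
  (Net.cons (nat_lit 1) (nat_lit 0x200040142401085094240040401004010a00902121021200240808500080200a12008428401294a4)
  (Net.cons (nat_lit 5) (nat_lit 0x70000401207010070020001805000060140100e01012008020581a010100700c0080806802)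
  (Net.cons (nat_lit 10) (nat_lit 0x3dc0020000280002280004c003dc0010000244000400015a0008800020001100011000168)
  (Net.cons (nat_lit 20) (nat_lit 0x68400000000211000000fafe000000f02000000002200000007ff14000001b342000006b280)
  (Net.cons (nat_lit 40) (nat_lit 0x85855e8400000000000067c9c303d8000000000024462952a800000000006731230880)
  (Net.cons (nat_lit 80) (nat_lit 0xa7c45d77f6140028c0000000000000000000000014e46a60a02a483c3000)
  (Net.cons (nat_lit 160) (nat_lit 0xae464da566000000000000000000000000000000)
  Net.nil)))))))))))))))))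
noncomputable def m81n2 : Net := (Net.cons (nat_lit 160) (nat_lit 0x56d996da99000000000000000000000000000000)
  (Net.cons (nat_lit 80) (nat_lit 0xe314e2e919244b919900000000000000000000009acb75e1004144534400)
  (Net.cons (nat_lit 40) (nat_lit 0x38f6cad14000000000019f416345e00000000005a633c283800000000009358614450)
  (Net.cons (nat_lit 20) (nat_lit 0x2459c0000043460000003382000000fa90000000f887000000acb000000044fa800000ca900)
  (Net.cons (nat_lit 10) (nat_lit 0x4200391001a200088000340000900090002f30012100350001780009c0038000238002c80001c)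
  (Net.cons (nat_lit 5) (nat_lit 0x201d054080480e0000800008014130681a05c0b00012070060401604c0d07c080641e0700800404)
  (Net.cons (nat_lit 1) (nat_lit 0x800000001000050000000000080000000000020200000000100000000000000000000000a0)
  (Net.cons (nat_lit 1) (nat_lit 0x128080000a0014a1000040800500400000000140509420000a0000000000400020000002940)
  (Net.cons (nat_lit 1) (nat_lit 0x200802140520005010852908129000214a12908501080294a401484010a0094002008501020010a0)
  (Net.cons (nat_lit 1) (nat_lit 0x421404290a4004a0214a10902128425084a5284a009405084a5090a0214a109005004a5084052940)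
  (Net.cons (nat_lit 1) (nat_lit 0x20484080812900109405290a100005094a129085090a0200000148529405284a02108001021010a0)
  (Net.cons (nat_lit 5) (nat_lit 0x201c06014048000000800000078020601a00008000100701c040140401200008020040700000000)
  (Net.cons (nat_lit 10) (nat_lit 0x4200208001a200000000240006400090003980012000350001580009c0038000060000c80001c)
  (Net.cons (nat_lit 20) (nat_lit 0x2459c00000434600000033820000007a90000000f887000000acb0000000e0da000000ca900)
  (Net.cons (nat_lit 40) (nat_lit 0x38f6cad14000000000019f416341600000000005a6334283800000000009358214450)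
  (Net.cons (nat_lit 80) (nat_lit 0xe314e2e919244b919900000000000000000000009acb75e1004144534400)
  (Net.cons (nat_lit 160) (nat_lit 0x56d996da99000000000000000000000000000000)
  Net.nil)))))))))))))))))
noncomputable def m81n3 : Net := (Net.cons (nat_lit 160) (nat_lit 0xab35cba518c00000000000000000000000000000)
  (Net.cons (nat_lit 80) (nat_lit 0xfc08aef63aca0b18a90800000000000000000000582d1744001243551000)
  (Net.cons (nat_lit 40) (nat_lit 0x5f10f8ff00000000000022c4869988000000000048e23df1b40000000000d7a1051100)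
  (Net.cons (nat_lit 20) (nat_lit 0xf8620000005c648000008810400000e2000000009e80000000406c2000005742a00000aef62)
  (Net.cons (nat_lit 10) (nat_lit 0x640038000060001200028500160001e000378000f1002800014f000d100024002c50034800068)
  (Net.cons (nat_lit 5) (nat_lit 0x601e0001c0380c040180441f020110000e0001c0001002c000281c01802028100481d03c0000c10)
  (Net.cons (nat_lit 1) (nat_lit 0xa0080000142000020000000000028001000240000000400000000000000000014210040008000)
  (Net.cons (nat_lit 1) (nat_lit 0x10140500000294a0014202800508005280a0014a0000a5280a1014000140028000294a4080012000)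
  (Net.cons (nat_lit 1) (nat_lit 0x284a4210000948408085014202148029404280852100421085290a42008101080294a429084210a0)
  (Net.cons (nat_lit 1) (nat_lit 0x129485290a5294a101420294a509405290a5214a4080a5284a1094a1094a429085294a1214242942)
  (Net.cons (nat_lit 1) (nat_lit 0x4a50900009420090a0000202008428001284242902009080080842040008080284a108480204a4)
  (Net.cons (nat_lit 5) (nat_lit 0x601e0000403800000180400602010000080001800010060000101c00806028100480c0400005010)
  (Net.cons (nat_lit 10) (nat_lit 0x64003800006000120002a000160001e0003380008000200000600001400020000880034800068)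
  (Net.cons (nat_lit 20) (nat_lit 0xf8620000004c648000008810400000e0000000009e80000000406c2000005742800000acf64)
  (Net.cons (nat_lit 40) (nat_lit 0x5f10f8fe00000000000022c4869988000000000048c21df1940000000000d7a1011100)
  (Net.cons (nat_lit 80) (nat_lit 0xfc08aef63aca0b18a90800000000000000000000582d1744001243551000)
  (Net.cons (nat_lit 160) (nat_lit 0xab35cba518c00000000000000000000000000000)
  Net.nil)))))))))))))))))
noncomputable def m81n4 : Net := (Net.cons (nat_lit 160) (nat_lit 0xcdb7d9191000000000000000000000000000000)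
  (Net.cons (nat_lit 80) (nat_lit 0x12dc46a51b01e325b220000000000000000000000736ab21510a6d82a000)
  (Net.cons (nat_lit 40) (nat_lit 0x2ea66962000000000001ab936e3c800000000002bfe8a4d6400000000007466462800)
  (Net.cons (nat_lit 20) (nat_lit 0x3f500000002090600000c0a0100000ad07e00000f7f6400000fea80000003acf00000040000)
  (Net.cons (nat_lit 10) (nat_lit 0x74003f0000a200209002b2003040004400161002da0013a003fa00340002a000302000120007c)
  (Net.cons (nat_lit 5) (nat_lit 0x78020700b0101a0301406c14020000301d04c0c0601003c1a040000681e00c000100202c0802c08)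
  (Net.cons (nat_lit 1) (nat_lit 0x20000080000000000000000200000108000000010040008000000200000408020080000800000080)
  (Net.cons (nat_lit 1) (nat_lit 0x500005004800800029401214a10002500001280a0280012140400400294a12140500401280000140)
  (Net.cons (nat_lit 1) (nat_lit 0x28001214850948501084214852808429084290252900021080200802148529480294a029480210a0)
  (Net.cons (nat_lit 1) (nat_lit 0x5010252942109421294a409421010a5090a1284a1290042940109404294a52940528485094012948)
  (Net.cons (nat_lit 1) (nat_lit 0x20401094240948500004080a52902509084004002840420401280052008428424094800048121081)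
  (Net.cons (nat_lit 5) (nat_lit 0x6800070100101a01014010140201c03008008120600004012040100480c05800010020500800008)
  (Net.cons (nat_lit 10) (nat_lit 0x74003f0000a200208002b200200000440039000218000320020200340002a800302000120007c)
  (Net.cons (nat_lit 20) (nat_lit 0x3f50000000209020000040a0800000ad07e00000f7e6400000feb80000007a4100000040000)
  (Net.cons (nat_lit 40) (nat_lit 0x2ea66162000000000001ab936a3c8000000000029ee820c4400000000007466442800)
  (Net.cons (nat_lit 80) (nat_lit 0x12dc46a51b01e325b2200000000000000000000007362b21510a6dc28000)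
  (Net.cons (nat_lit 160) (nat_lit 0xcdb7d9191000000000000000000000000000000)
  Net.nil)))))))))))))))))
noncomputable def m81l : List Net := [m81n0,m81n1,m81n2,m81n3,m81n4]
noncomputable abbrev m81 : ℕ → Net := lk Net.nil m81l
theorem m81ok : NetsOk 266 m81 vT := netsOk_of (by decide +kernel)
theorem m81s0 : Sat io [] (finG m81ok) := fin_sat_nil _ (k := 9) (n := 5) (by decide +kernel)
noncomputable def C82 : List (List ℕ) := [r0,r1,r2,r3,r4,r5,r6,r7,r8,r9,r10,r11,r12]
theorem cl83 : Clo.{u} io C82 [0,1,2,3] 266 m81 1 (mkB []) := Clo.start (by decide +kernel)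
theorem imp84 : Imp.{u} io C82 C59 := Imp.of_chk (pfs := [[([],1)],[([],3)],[([],5)],[([],9)],[([],11)],[([],15)],[([],21)],[([],23)]]) (by decide +kernel)
theorem der86 : Der 11 (finX 11) (cl (finG m58ok) [[0],[1],[2]]) (fun _ => Net.nil) := Der.zero (finModel m58ok).inj
noncomputable def ns87 : ℕ → Net := upd (fun _ => Net.nil) 0 (m58 0)
theorem der88 : Der 11 (finX 11) (cl (finG m58ok) [[0],[1],[2]]) ns87 := der86.add (wp_mem_cl (w := [0]) (by decide)) (rep_letter (finModel m58ok) 0) 0
noncomputable def ns89 : ℕ → Net := upd ns87 1 (m58 1)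
theorem der90 : Der 11 (finX 11) (cl (finG m58ok) [[0],[1],[2]]) ns89 := der88.add (wp_mem_cl (w := [1]) (by decide)) (rep_letter (finModel m58ok) 1) 1
noncomputable def ns91 : ℕ → Net := upd ns89 2 (m58 2)
theorem der92 : Der 11 (finX 11) (cl (finG m58ok) [[0],[1],[2]]) ns91 := der90.add (wp_mem_cl (w := [2]) (by decide)) (rep_letter (finModel m58ok) 2) 2
noncomputable def L93 : Lev := Lev.cons 5 6 [[0],[1]] Lev.nil
noncomputable def L94 : Lev := Lev.cons 1 10 [[2]] L93
theorem lc95 : Lev.chk 11 1 ns91 vT 100 L94 = true := by decide +kernel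
theorem lb96 : 60 ≤ Nat.card (cl (finG m58ok) [[0],[1],[2]]) := le_of_eq_of_le (by decide +kernel) (der92.card_ge lc95)
theorem ix85 : Idx.{u} io C82 [0,1,2,3] [[0],[1],[2]] 11 := (Idx.of bd79 sat80 (by decide +kernel) lb96 (by decide +kernel)).of_imp imp84
noncomputable def lk97 : List (List ℕ × List ℕ × Pf) := [([0],[0],[([],7)]),([1],[1],[([],13)]),([2],[2],[([],17)])]
noncomputable def O98 : ℕ := (nat_lit 0x4030a32e)
noncomputable def M99 : ℕ := (nat_lit 0x4030a32f)
noncomputable def b100 : ℕ := (nat_lit 1)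
theorem cl101 : Clo.{u} io C82 [0,1,2,3] 266 m81 M99 (mkB [(4,b100)]) := cl83.new (k := 6) (b := 4) (q := 0) (p := 1) (r := 200) (n := 11) (O := O98) (by decide +kernel) (lks := lk97) (by decide +kernel) (gens_of_lall2 (m := [[0],[1],[2]]) (by decide +kernel)) ix85 (by decide +kernel)
noncomputable def b102 : ℕ := (nat_lit 3)
theorem cl103 : Clo.{u} io C82 [0,1,2,3] 266 m81 M99 (mkB [(4,b102)]) := cl101.ops (os := [Op.inv 4]) (by decide +kernel) (by decide +kernel)
theorem der105 : Der 11 (finX 11) (cl (finG m58ok) [[0],[1]]) (fun _ => Net.nil) := Der.zero (finModel m58ok).inj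
noncomputable def ns106 : ℕ → Net := upd (fun _ => Net.nil) 0 (m58 0)
theorem der107 : Der 11 (finX 11) (cl (finG m58ok) [[0],[1]]) ns106 := der105.add (wp_mem_cl (w := [0]) (by decide)) (rep_letter (finModel m58ok) 0) 0
noncomputable def ns108 : ℕ → Net := upd ns106 1 (m58 1)
theorem der109 : Der 11 (finX 11) (cl (finG m58ok) [[0],[1]]) ns108 := der107.add (wp_mem_cl (w := [1]) (by decide)) (rep_letter (finModel m58ok) 1) 1
noncomputable def L110 : Lev := Lev.cons 5 6 [[0],[1]] Lev.nil
theorem lc111 : Lev.chk 11 1 ns108 vT 100 L110 = true := by decide +kernel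
theorem lb112 : 6 ≤ Nat.card (cl (finG m58ok) [[0],[1]]) := le_of_eq_of_le (by decide +kernel) (der109.card_ge lc111)
theorem ix104 : Idx.{u} io C82 [0,1,2,3] [[0],[1]] 110 := (Idx.of bd79 sat80 (by decide +kernel) lb112 (by decide +kernel)).of_imp imp84
noncomputable def lk113 : List (List ℕ × List ℕ × Pf) := [([0],[0],[([],7)]),([1],[1],[([],13)])]
noncomputable def O114 : ℕ := (nat_lit 0x805284e10c5800de37191b025f8d296e33e56ff2effbfbfcf5cd0)
noncomputable def M115 : ℕ := (nat_lit 0x805284e10c5800de37191b025f8d296e33e56ff2effbfffffffff)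
noncomputable def b116 : ℕ := (nat_lit 7)
theorem cl117 : Clo.{u} io C82 [0,1,2,3] 266 m81 M115 (mkB [(4,b116)]) := cl103.new (k := 6) (b := 4) (q := 2) (p := 4) (r := 200) (n := 110) (O := O114) (by decide +kernel) (lks := lk113) (by decide +kernel) (gens_of_lall2 (m := [[0],[1]]) (by decide +kernel)) ix104 (by decide +kernel)
noncomputable def b118 : ℕ := (nat_lit 0x80012000003000b80002e00e005706178dfdffffff)
theorem cl119 : Clo.{u} io C82 [0,1,2,3] 266 m81 M115 (mkB [(4,b118)]) := cl117.ops (os := [Op.ext 4 5 [([0],[0],[([],7)]),([1],[1],[([],13)]),([2],[2],[([],17)])],Op.inv 4,Op.rel 4 [3] 4 [3,4,3,4,3,4,3] [([],19)],Op.ext 4 5 [([0],[0],[([],7)]),([1],[1],[([],13)]),([2],[2],[([],17)])],Op.rel 4 [0,2,3] 4 [3,2,4,3,2,4,3,2,4,3,2] [([],25)],Op.ext 4 4 [([0],[0],[([],7)]),([1],[1],[([],13)]),([2],[2],[([],17)])]]) (by decide +kernel) (by decide +kernel)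
theorem der121 : Der 11 (finX 11) (cl (finG m58ok) [[0,1,0,2,1,0,2,1,2,1,2,3,2,1]]) (fun _ => Net.nil) := Der.zero (finModel m58ok).inj
noncomputable def x122 : Net := (Net.cons (nat_lit 6) (nat_lit 18)
  (Net.cons (nat_lit 3) (nat_lit 261)
  (Net.cons (nat_lit 1) (nat_lit 1)
  (Net.cons (nat_lit 1) (nat_lit 1042)
  (Net.cons (nat_lit 1) (nat_lit 512)
  (Net.cons (nat_lit 3) (nat_lit 384)
  (Net.cons (nat_lit 6) (nat_lit 20)
  Net.nil)))))))
noncomputable def ns123 : ℕ → Net := upd (fun _ => Net.nil) 0 x122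
theorem der124 : Der 11 (finX 11) (cl (finG m58ok) [[0,1,0,2,1,0,2,1,2,1,2,3,2,1]]) ns123 := der121.add (wp_mem_cl (w := [0,1,0,2,1,0,2,1,2,1,2,3,2,1]) (by decide)) ((finModel m58ok).toIsPre.rep_word (k := 4) (w := [0,1,0,2,1,0,2,1,2,1,2,3,2,1]) (n := x122) (by decide +kernel)) 0
noncomputable def L125 : Lev := Lev.cons 0 5 [[0]] Lev.nil
theorem lc126 : Lev.chk 11 1 ns123 vT 100 L125 = true := by decide +kernel
theorem lb127 : 5 ≤ Nat.card (cl (finG m58ok) [[0,1,0,2,1,0,2,1,2,1,2,3,2,1]]) := le_of_eq_of_le (by decide +kernel) (der124.card_ge lc126)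
theorem ix120 : Idx.{u} io C82 [0,1,2,3] [[0,1,0,2,1,0,2,1,2,1,2,3,2,1]] 132 := (Idx.of bd79 sat80 (by decide +kernel) lb127 (by decide +kernel)).of_imp imp84
noncomputable def lk128 : List (List ℕ × List ℕ × Pf) := [([0],[0],[([],7)]),([1],[1],[([],13)]),([2],[2],[([],17)]),([2,3],[3,2,0,4,3,2,4,3,2,4,3,2],[([4,3,2,0],25)])]
noncomputable def O129 : ℕ := (nat_lit 0x72bfffefffff7fad7b1ef3a7ff21c8e6e4fda072d691cc1a900d1004000000000)
noncomputable def M130 : ℕ := (nat_lit 0x72bfffeffffffffffffffffffffffffffffffffffffffffffffffffffffffffff)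
noncomputable def b131 : ℕ := (nat_lit 0x80012000003000b80002e00e005706178dffffffff)
theorem cl132 : Clo.{u} io C82 [0,1,2,3] 266 m81 M130 (mkB [(4,b131)]) := cl119.new (k := 6) (b := 4) (q := 25) (p := 38) (r := 200) (n := 132) (O := O129) (by decide +kernel) (lks := lk128) (by decide +kernel) (gens_of_lall2 (m := [[0,1,0,2,1,0,2,1,2,1,3,2,1]]) (by decide +kernel)) ix120 (by decide +kernel)
noncomputable def b133 : ℕ := (nat_lit 0x7ffe5bfffffffdffffffffffffffffffffffffffffffffffffffffffffffff)
theorem cl134 : Clo.{u} io C82 [0,1,2,3] 266 m81 M130 (mkB [(4,b133)]) := cl132.ops (os := [Op.ext 4 5 [([0],[0],[([],7)]),([1],[1],[([],13)]),([2],[2],[([],17)])],Op.inv 4,Op.rel 4 [3] 4 [3,4,3,4,3,4,3] [([],19)],Op.ext 4 5 [([0],[0],[([],7)]),([1],[1],[([],13)]),([2],[2],[([],17)])]]) (by decide +kernel) (by decide +kernel)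
theorem der136 : Der 11 (finX 11) (cl (finG m58ok) [[2,3,2,1,0],[1,2,3,2,3]]) (fun _ => Net.nil) := Der.zero (finModel m58ok).inj
noncomputable def x137 : Net := (Net.cons (nat_lit 6) (nat_lit 40)
  (Net.cons (nat_lit 3) (nat_lit 66)
  (Net.cons (nat_lit 1) (nat_lit 1154)
  (Net.cons (nat_lit 1) (nat_lit 513)
  (Net.cons (nat_lit 3) (nat_lit 2)
  (Net.cons (nat_lit 6) (nat_lit 36)
  Net.nil))))))
noncomputable def ns138 : ℕ → Net := upd (fun _ => Net.nil) 0 x137
theorem der139 : Der 11 (finX 11) (cl (finG m58ok) [[2,3,2,1,0],[1,2,3,2,3]]) ns138 := der136.add (wp_mem_cl (w := [2,3,2,1,0]) (by decide)) ((finModel m58ok).toIsPre.rep_word (k := 4) (w := [2,3,2,1,0]) (n := x137) (by decide +kernel)) 0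
noncomputable def x140 : Net := (Net.cons (nat_lit 6) (nat_lit 16)
  (Net.cons (nat_lit 3) (nat_lit 449)
  (Net.cons (nat_lit 1) (nat_lit 520)
  (Net.cons (nat_lit 1) (nat_lit 1040)
  (Net.cons (nat_lit 1) (nat_lit 585)
  (Net.cons (nat_lit 3) (nat_lit 388)
  Net.nil))))))
noncomputable def ns141 : ℕ → Net := upd ns138 1 x140
theorem der142 : Der 11 (finX 11) (cl (finG m58ok) [[2,3,2,1,0],[1,2,3,2,3]]) ns141 := der139.add (wp_mem_cl (w := [1,2,3,2,3]) (by decide)) ((finModel m58ok).toIsPre.rep_word (k := 4) (w := [1,2,3,2,3]) (n := x140) (by decide +kernel)) 1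
noncomputable def L143 : Lev := Lev.cons 0 5 [[0]] Lev.nil
noncomputable def L144 : Lev := Lev.cons 1 11 [[1]] L143
theorem lc145 : Lev.chk 11 1 ns141 vT 100 L144 = true := by decide +kernel
theorem lb146 : 55 ≤ Nat.card (cl (finG m58ok) [[2,3,2,1,0],[1,2,3,2,3]]) := le_of_eq_of_le (by decide +kernel) (der142.card_ge lc145)
theorem ix135 : Idx.{u} io C82 [0,1,2,3] [[2,3,2,1,0],[1,2,3,2,3]] 12 := (Idx.of bd79 sat80 (by decide +kernel) lb146 (by decide +kernel)).of_imp imp84
noncomputable def lk147 : List (List ℕ × List ℕ × Pf) := [([2],[2],[([],17)]),([3,2],[0,2,3,4,2,3,4,2,3,4,2,3],[([4],24)]),([1],[1],[([],13)]),([0],[0],[([],7)]),([2,3],[3,2,4,3,2,4,3,2,4,3,2,0],[([4,3,2,4,3,2,4,3,2,4,3,2,0],25)]),([2,3],[3,2,0,4,3,2,4,3,2,4,3,2],[([4,3,2,0],25)])]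
noncomputable def O148 : ℕ := (nat_lit 0x3f8d400010000000000000000000000000000000000000000000000000000000000)
noncomputable def M149 : ℕ := (nat_lit 0x3ffffffffffffffffffffffffffffffffffffffffffffffffffffffffffffffffff)
noncomputable def b150 : ℕ := (nat_lit 0x7ffe5bffffffffffffffffffffffffffffffffffffffffffffffffffffffff)
theorem cl151 : Clo.{u} io C82 [0,1,2,3] 266 m81 M149 (mkB [(4,b150)]) := cl134.new (k := 6) (b := 4) (q := 193) (p := 232) (r := 200) (n := 12) (O := O148) (by decide +kernel) (lks := lk147) (by decide +kernel) (gens_of_lall2 (m := [[0,1,2,3],[2,4,5]]) (by decide +kernel)) ix135 (by decide +kernel)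
noncomputable def b152 : ℕ := (nat_lit 0x3ffffffffffffffffffffffffffffffffffffffffffffffffffffffffffffffffff)
theorem cl153 : Clo.{u} io C82 [0,1,2,3] 266 m81 M149 (mkB [(4,b152)]) := cl151.ops (os := [Op.ext 4 3 [([0],[0],[([],7)]),([1],[1],[([],13)]),([2],[2],[([],17)])],Op.inv 4]) (by decide +kernel) (by decide +kernel)
theorem sat155 : Sat io C82 (finG m81ok) := m81s0.fin (k := 9) (by decide +kernel)
theorem bd154 : Bound.{u} io C82 [0,1,2,3,4] 175560 := cl153.bound (by decide +kernel) sat155 (bd79.of_imp imp84)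
abbrev GJ : Type := ↥(cl (finG m81ok) (lw [0,1,2,3,4]))
theorem allJ : ∀ l, finG m81ok l ∈ (cl (finG m81ok) (lw [0,1,2,3,4])) := finG_mem_all _ (by decide +kernel)
noncomputable def gJ : ℕ → GJ := subA _ _ allJ
noncomputable abbrev RJ : List (List ℕ) := C82
theorem satJ : Sat io RJ gJ := sat155.subA _
theorem topJ : cl gJ (lw [0,1,2,3,4]) = ⊤ := cl_subA _
theorem modelJ : IsModel 266 (finX 266) gJ m81 vT := (finModel m81ok).subA _
theorem faithJ : Faith GJ 266 (finX 266) := (faith_fin 266).sub _
theorem der156 : Der 266 (finX 266) (cl (finG m81ok) (lw [0,1,2,3,4])) (resN m81 [0,1,2,3,4]) := Der.letters (finModel m81ok) _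
noncomputable def x157 : Net := (Net.cons (nat_lit 160) (nat_lit 0x5acc7e491124529958abac683b164ad80df4e586)
  (Net.cons (nat_lit 80) (nat_lit 0x92e95bbdf703221892de00000000000000000000e963f40ce7e5171ef6e0)
  (Net.cons (nat_lit 40) (nat_lit 0xd43ba9bbfd000000000028911a49800000000000576b463f1300000000000a99019104)
  (Net.cons (nat_lit 20) (nat_lit 0xa43ee00000f0e2200000dcd4800000591fc00000d5f1600000ea730000008b35800000fb57a)
  (Net.cons (nat_lit 10) (nat_lit 0x25a000730009000200000bc00211003a7001d3002ad0011c00353001e800258002b8003e8002ac)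
  (Net.cons (nat_lit 5) (nat_lit 0x24170101a000030501a050040100602c1f01c1506c03038140100302811070180000404c050001e)
  (Net.cons (nat_lit 1) (nat_lit 0x14040040000001000000040400000000200000000000000a00000000000080000000001400)
  (Net.cons (nat_lit 1) (nat_lit 0x400000294a0280000002020004280a00908001480000802002401400000a10000501080094842840)
  (Net.cons (nat_lit 1) (nat_lit 0x200012948501001004040900129405014a500484084a529085210a00148420080294a40148529480)
  (Net.cons (nat_lit 1) (nat_lit 0x101021294212802528081080a128020084a409421284210942509485290a40908509420294a12940)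
  (Net.cons (nat_lit 1) (nat_lit 0x204a10142001021284002800420400094a1080010940529080014a40900108020094000948101480)
  (Net.cons (nat_lit 5) (nat_lit 0x20020101a068060201c0200c01006020080100006002008000180a020060280004000050120581c)
  (Net.cons (nat_lit 10) (nat_lit 0x2d2001680001400080000a400340002c2001f00032c002ec003720008800050002f400104002a2)
  (Net.cons (nat_lit 20) (nat_lit 0xa6f8c0000093a34000009c54800000cd8b800000a6c3600000e6552000001b19800000fa8cc)
  (Net.cons (nat_lit 40) (nat_lit 0xd61b87b7da000000000010c79c42980000000000bf79c72d3600000000000bb809c040)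
  (Net.cons (nat_lit 80) (nat_lit 0x80e121bdf727306305a200000000000000000000e863f518a9f4b3b49cc6)
  (Net.cons (nat_lit 160) (nat_lit 0x5acc7e4911245227f59930be30c75b7f2028e1ba)
  Net.nil)))))))))))))))))
noncomputable def x157s : ℕ → Net := upd (resN m81 [0,1,2,3,4]) 5 x157
theorem der158 : Der 266 (finX 266) (cl (finG m81ok) (lw [0,1,2,3,4])) x157s := der156.ext (k := 9) (w := [0,1,2,1,0,2,1,2,3,1,2,1]) 5 (by decide +kernel)
noncomputable def L159 : Lev := Lev.cons 1 5 [[5]] Lev.nil
noncomputable def L160 : Lev := Lev.cons 38 132 [[0],[1],[2],[3]] L159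
noncomputable def L161 : Lev := Lev.cons 0 266 [[4]] L160
theorem lc162 : Lev.chk 266 6 x157s vT 100 L161 = true := by decide +kernel
theorem bdJ : Bound.{u} io RJ [0,1,2,3,4] 175560 := bd154
theorem cardJ : Nat.card GJ = 175560 := le_antisymm (bdJ.{0}.fin sat155) (le_of_eq_of_le (by decide +kernel) (der158.card_ge lc162))
noncomputable def baseJ : List ℕ := [0,38,1]
theorem basedJ : Based 266 (finX 266) (⊤ : Subgroup GJ) baseJ := (der158.based lc162 (le_of_eq_of_le cardJ (by decide +kernel))).sub
noncomputable def eqvJ : List ℕ → List ℕ → Bool := eqBc m81 baseJ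
theorem heqJ : ∀ u w, eqvJ u w = true → wp gJ u = wp gJ w := basedJ.eqv modelJ.toIsPre
theorem s0J : Sat io [] gJ := satJ.nil
noncomputable def cvJ : List (List ℕ) := [[1,2,3,2,4],[0,1,2,3,2,4,0]]
theorem der163 : Der 266 (finX 266) (cl gJ cvJ) (fun _ => Net.nil) := Der.zero modelJ.inj
noncomputable def x164 : Net := (Net.cons (nat_lit 160) (nat_lit 0x36519e5f8bf19cf8b2dc0d4ddde7fe93441af348)
  (Net.cons (nat_lit 80) (nat_lit 0xaa2767adbcfba1ca311f00000000000000000000e138f436f188ef73e48d)
  (Net.cons (nat_lit 40) (nat_lit 0xa4573294c5000000000004418fdb9d0000000000ee0912fd4c0000000000c7e1378394)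
  (Net.cons (nat_lit 20) (nat_lit 0xd8b4800000d903f00000b37460000082f9800000a383e000009ae3200000f28160000055642)
  (Net.cons (nat_lit 10) (nat_lit 0x2e003c30007c002ff00253001e4000900005f0032a00360001700010100019001500022400293)
  (Net.cons (nat_lit 5) (nat_lit 0x70010300005c0b05c12070160201b0780c0200e02015068000080f0100101c0f028160240e00801)
  (Net.cons (nat_lit 1) (nat_lit 0x1000000002000000014000142000400014000000001000080000802000001000800002000000)
  (Net.cons (nat_lit 1) (nat_lit 0x14a0000050042000084280a029400084852808000000280a128421014042942021400284a10008)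
  (Net.cons (nat_lit 1) (nat_lit 0x808421005280a4280242140401480014852140520080014852108520081214a4290a02948421004)
  (Net.cons (nat_lit 1) (nat_lit 0x1214a1280252148520425284a029400290a52842401004290a429424014212948109481290a5080a)
  (Net.cons (nat_lit 1) (nat_lit 0x10200800528081010a100404210252102021025210810840528080284a10808429020204a000404)
  (Net.cons (nat_lit 5) (nat_lit 0x681204800000040580e0281400012050080400e06010048180480c010000501800808020140480c)
  (Net.cons (nat_lit 10) (nat_lit 0x3240017a0027800166002c000064003da0004c003220017200398001260003c000480020800198)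
  (Net.cons (nat_lit 20) (nat_lit 0xfa800000003328c00000e3f5e0000002eb000000a899e000009a8b000000ba82400000f4752)
  (Net.cons (nat_lit 40) (nat_lit 0xbe70e26ff00000000000554181cc5c00000000006625337f1c00000000008dc077aba8)
  (Net.cons (nat_lit 80) (nat_lit 0x98777baebe5baf300abe00000000000000000000e81e9496c1868d6fd636)
  (Net.cons (nat_lit 160) (nat_lit 0x36519e5f8bf19c85f3eaa19c70c0fabd3f7367a8)
  Net.nil)))))))))))))))))
noncomputable def ns165 : ℕ → Net := upd (fun _ => Net.nil) 0 x164
theorem der166 : Der 266 (finX 266) (cl gJ cvJ) ns165 := der163.add (wp_mem_cl (w := [1,2,3,2,4]) (by decide)) (modelJ.toIsPre.rep_word (k := 9) (w := [1,2,3,2,4]) (n := x164) (by decide +kernel)) 0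
noncomputable def x167 : Net := (Net.cons (nat_lit 160) (nat_lit 0xdfe5395b64c3d1d92e78b35b4b2328de0e71d814)
  (Net.cons (nat_lit 80) (nat_lit 0x25e21e9fcd731dd5396c00000000000000000000fa4b3c6b131e951d16b3)
  (Net.cons (nat_lit 40) (nat_lit 0x1538988b080000000000c4b63d0152000000000014a13cc7420000000000c17ad7ec62)
  (Net.cons (nat_lit 20) (nat_lit 0x5d707000003655b00000d1ba2000004f01d00000e09a100000a9f010000028e6900000fe06e)
  (Net.cons (nat_lit 10) (nat_lit 0xe10024b001e3001c20000b001b00020a00109002880002100072001ea0019300147002e8002d8)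
  (Net.cons (nat_lit 5) (nat_lit 0x18120381903c1407402060040501600c1605c0f0280404405044050680100009000080101c0441c)
  (Net.cons (nat_lit 1) (nat_lit 0x210000500000000000000000000084000002021001094a0000002800000000000000800000020)
  (Net.cons (nat_lit 1) (nat_lit 0x5004a0000a0210800040408084080050842028485280252948401405000840000021401004040142)
  (Net.cons (nat_lit 1) (nat_lit 0x290840002501485000a4294a52908021084214a529484214a52148428085284a5014a020084200a5)
  (Net.cons (nat_lit 1) (nat_lit 0x1214a1004a009424004810942121405290a1094a5290a5294a529425004a5084a109484014252142)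
  (Net.cons (nat_lit 1) (nat_lit 0x1424200242108528024204250100001401200852940129485000240000508420014850102409005)
  (Net.cons (nat_lit 5) (nat_lit 0xe0101807012020020401400814008040401e000040201e0000a04800000020001a020100501a)
  (Net.cons (nat_lit 10) (nat_lit 0xbc002c8001b8003240003c003b0002100039400208002b20005c0007a001b200142001c80027c)
  (Net.cons (nat_lit 20) (nat_lit 0xcc22600000f732a000009339400000c1c1000000e292a00000b9fb6000002864800000d600a)
  (Net.cons (nat_lit 40) (nat_lit 0x74fe8906e800000000000db6444a10000000000034a28a8f400000000000c47e1368b4)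
  (Net.cons (nat_lit 80) (nat_lit 0x6ea33e8de9f04f3204d800000000000000000000da53fccb11029f5eb46e)
  (Net.cons (nat_lit 160) (nat_lit 0xdfe5395b64c3d37f6082bb7d7b1bbe942e48be34)
  Net.nil)))))))))))))))))
noncomputable def ns168 : ℕ → Net := upd ns165 1 x167
theorem der169 : Der 266 (finX 266) (cl gJ cvJ) ns168 := der166.add (wp_mem_cl (w := [0,1,2,3,2,4,0]) (by decide)) (modelJ.toIsPre.rep_word (k := 9) (w := [0,1,2,3,2,4,0]) (n := x167) (by decide +kernel)) 1
noncomputable def x170 : Net := (Net.cons (nat_lit 160) (nat_lit 0x9f3916c4a2d5c892a4a8de685f1ec3e2cb80a0a)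
  (Net.cons (nat_lit 80) (nat_lit 0x101ee176ac477d929cf20000000000000000000082786aaea10a4532e0d8)
  (Net.cons (nat_lit 40) (nat_lit 0x262ed7bf100000000000292c91d93000000000008896f08690000000000044b2eaf0aa)
  (Net.cons (nat_lit 20) (nat_lit 0x3a800000001548800000bb12200000d77460000027c2000000000f6000007e94d000001cc06)
  (Net.cons (nat_lit 10) (nat_lit 0x250002d600174002c800014002f9003fc001dc002ce00288003fa0015f001b4000260016b00034)
  (Net.cons (nat_lit 5) (nat_lit 0x7c0e0480a02c1d0580204019010110241d034060740c00c1c0480000c060201c05017034100401c)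
  (Net.cons (nat_lit 1) (nat_lit 0x2840000000000000802000000080000040000020000000800009401000a0000050040000000)
  (Net.cons (nat_lit 1) (nat_lit 0x128005280000008000001294002800120080090200040000085280012842101480004a0280040040)
  (Net.cons (nat_lit 1) (nat_lit 0x29484290200008501005210a101020214042948420080080a52900021484210a5290850100428080)
  (Net.cons (nat_lit 1) (nat_lit 0x1284a528420214202802529421284850902529481290050142528005290a521425214a4294210108)
  (Net.cons (nat_lit 1) (nat_lit 0x2040400000014a500421204a5000a0084210940509421000a12040429480010a1200840002000084)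
  (Net.cons (nat_lit 5) (nat_lit 0x2008020000281c0480204812010180200400004060080080804008018040100c000060601200018)
  (Net.cons (nat_lit 10) (nat_lit 0x2300026800050002c000106003d000086001da002aa002b8001fa003080009c001e4001c4000e0)
  (Net.cons (nat_lit 20) (nat_lit 0x96240000014200000001c52200000c775a00000e548000000407b400000288f80000069c18)
  (Net.cons (nat_lit 40) (nat_lit 0x271697d750000000000088bd12507200000000004ad29ca000000000000036b2e9e122)
  (Net.cons (nat_lit 80) (nat_lit 0x11def07eec623d1d456000000000000000000000f07822bd058a6537a852)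
  (Net.cons (nat_lit 160) (nat_lit 0x9f3916c4a2d5e01326d852c9395ed3684d5f024)
  Net.nil)))))))))))))))))
noncomputable def x170s : ℕ → Net := upd ns168 2 x170
theorem der171 : Der 266 (finX 266) (cl gJ cvJ) x170s := der169.ext (k := 9) (w := [0,0,1,1,0,1,0,0,0,1,0]) 2 (by decide +kernel)
noncomputable def x172 : Net := (Net.cons (nat_lit 160) (nat_lit 0x6a462866290e42ee6579c9219042914a00644800)
  (Net.cons (nat_lit 80) (nat_lit 0x402a4e07682946240994000000000000000000005ecce2c3c002a2e55020)
  (Net.cons (nat_lit 40) (nat_lit 0x42850a1000000000007e18007a1a00000000004e2d93cad0000000000059ff766170)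
  (Net.cons (nat_lit 20) (nat_lit 0xa0344000004b420000005202c00000ffbd0000002a14000000449fe000004b3260000094030)
  (Net.cons (nat_lit 10) (nat_lit 0x1a000038000800034c00010003e0003ae0010a002f5001520032c001f4001ea0009600004000ec)
  (Net.cons (nat_lit 5) (nat_lit 0x20000241403004008060440a0600006c00024020701a02018028100781c034020541f000100781a)
  (Net.cons (nat_lit 1) (nat_lit 0x10040100020000000808420001000800000000000000002040001000000810000108000)
  (Net.cons (nat_lit 1) (nat_lit 0x1400000a0280a00140500425014a5294a001405000000000000005294002800001420000a50000)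
  (Net.cons (nat_lit 1) (nat_lit 0x200840100409004290a1200a5210a529484010a1210a02000020021290a429405080a5000a421480)
  (Net.cons (nat_lit 1) (nat_lit 0x401421084a1280a52142528425214a5294a5094a528481204040142529485280a1084a0094a50900)
  (Net.cons (nat_lit 1) (nat_lit 0x2008401001084212942100000294840108501081010a020004210a10040129025004a5000a5294a4)
  (Net.cons (nat_lit 5) (nat_lit 0x2014010000080604000060000100002002070180200806008058180100200800000100701a)
  (Net.cons (nat_lit 10) (nat_lit 0x18000020000800034400010003e00022e0010a0027000150000bc001500012a00096000840006c)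
  (Net.cons (nat_lit 20) (nat_lit 0xa0344000004b420000005202c00000ffbd0000002a140000000ea32000000b32600000240a0)
  (Net.cons (nat_lit 40) (nat_lit 0x42850a1000000000007a18007a1a00000000004e0591cad0000000000059ff766170)
  (Net.cons (nat_lit 80) (nat_lit 0x402a4e07682946240994000000000000000000005ecce2c3c002a2e55020)
  (Net.cons (nat_lit 160) (nat_lit 0x6a462866290e42ee6579c9219042914a00644800)
  Net.nil)))))))))))))))))
noncomputable def x172s : ℕ → Net := upd x170s 3 x172
theorem der173 : Der 266 (finX 266) (cl gJ cvJ) x172s := der171.ext (k := 9) (w := [0,0,0,0,1,0,1,1,1,0,1]) 3 (by decide +kernel)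
noncomputable def L174 : Lev := Lev.cons 1 5 [[2]] Lev.nil
noncomputable def L175 : Lev := Lev.cons 101 132 [[3]] L174
noncomputable def L176 : Lev := Lev.cons 0 266 [[0],[1]] L175
theorem lc177 : Lev.chk 266 6 x172s vT 100 L176 = true := by decide +kernel
theorem lb178 : 175560 ≤ Nat.card (cl gJ cvJ) := le_of_eq_of_le (by decide +kernel) (der173.card_ge lc177)
theorem simpleJ : IsSimpleGroup GJ := modelJ.simple faithJ topJ (ws := [[4,3,2,1,0,2,1,4,3,2,1,4,3,2,0,3,4,3,2,1,2,3,4,2,0,1,2,3,4],[0]]) (r := 100) (p0 := 0) (l := [(1,[4]),(4,[4,3,4]),(38,[4,3,4,2,1,2,3,4]),(232,[4,3,4,2,1,2,3,4,2,0,1,2,3,4])]) (by decide +kernel) (p := 19) (by norm_num) cardJ (by norm_num) (pow_one_of heqJ (a := [1,2,3,2,4]) (by decide +kernel)) (ncl_top s0J (cs := [[],[0]]) (by decide +kernel) cardJ lb178)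

end Cfsg.Agent.H6.JN
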