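/-
Consequences of the odd order theorem: coprime conjugacy, Hall subgroups of `π`-separable groups.
-/
import Cfsg.Agent.GS.Lem3
import Cfsg.Agent.PF.FT
import Cfsg.Prelude.Def_HallClasses

namespace Cfsg.Agent.GS

open Subgroup Cfsg.Agent.H1 Cfsg.Agent.BG
open Cfsg.Agent.H2 hiding card_lt_of_lt card_lt_of_ne_top isMulCommutative_of_le isPGroup_zpowers_iff mem_of_pow_mem_of_coprime inf_eq_bot_of_cop exists_maxElem_ge Sec
open Cfsg.Agent.H8 (Op Opp Fit SN)
open Cfsg.Agent.L (FPF)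
open scoped commutatorElement Pointwise

universe u
variable {G : Type u} [Group G] [Finite G]
variable {p q r k n : ℕ} {π ρ : Set ℕ} {A B C D E H K L M N P Q R S T U V X Y Z : Subgroup G} {a b g x y : G}

theorem solv_or_solv' {A B : Type*} [Group A] [Finite A] [Group B] [Finite B] (h : (♯A).Coprime (♯B)) :
    Group.IsSolvable A ∨ Group.IsSolvable B := by
  rcases Nat.even_or_odd (♯A) with h1 | h1
  · exact Or.inr (odd_order (Nat.coprime_two_left.1 (Nat.Coprime.coprime_dvd_left h1.two_dvd h)))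
  · exact Or.inl (odd_order h1)

theorem conj_le_cop (hAK : A ≤ 𝒩 K) (hd : A ⊓ K = ⊥) (hB : B ≤ A ⊔ K) (hc : (♯B).Coprime (♯K)) :
    ∃ c ∈ K, MulAut.conj c • B ≤ A := exists_conj_le_of_coprime hAK hd hB hc (solv_or_solv' hc)

/-- `π`-separable groups -/
def PiSep (π : Set ℕ) (G : Type*) [Group G] : Prop :=
  ∀ N : Subgroup G, N.Normal → N ≠ ⊤ → ∃ M : Subgroup G, M.Normal ∧ N < M ∧
    ((∀ p : ℕ, p.Prime → p ∣ N.relIndex M → p ∈ π) ∨ ∀ p : ℕ, p.Prime → p ∣ N.relIndex M → p ∉ π)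

omit [Finite G] in
theorem PiSep.of_surjective {G' : Type*} [Group G'] (h : PiSep π G) {f : G →* G'} (hf : Function.Surjective f) : PiSep π G' := by
  intro N hN hne
  obtain ⟨M, h1, h2, h3⟩ := h (N.comap f) inferInstance fun e => hne (by
    rw [← map_comap_eq_self_of_surjective hf N, e]; exact map_top_of_surjective f hf)
  refine ⟨M.map f, h1.map f hf, lt_of_le_of_ne ?_ fun e => h2.not_ge ?_, by rwa [relIndex_comap] at h3⟩
  · rw [← map_comap_eq_self_of_surjective hf N]; exact map_mono h2.le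
  · rw [e]; exact le_comap_map f M

omit [Finite G] in
theorem PiSep.quotient (h : PiSep π G) (N : Subgroup G) [N.Normal] : PiSep π (G ⧸ N) :=
  h.of_surjective (QuotientGroup.mk'_surjective N)

omit [Finite G] in
theorem piSep_of_chain {n : ℕ} {H : Fin (n + 1) → Subgroup G} (h0 : H 0 = ⊥) (hl : H (Fin.last n) = ⊤) (hn : ∀ i, (H i).Normal)
    (hs : ∀ i : Fin n, (∀ q : ℕ, q.Prime → q ∣ (H i.castSucc).relIndex (H i.succ) → q ∈ π) ∨
        (∀ q : ℕ, q.Prime → q ∣ (H i.castSucc).relIndex (H i.succ) → q ∉ π)) : PiSep π G := by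
  intro N _ hne
  by_contra hcon
  have : ∀ i, H i ≤ N := by
    intro i
    induction i using Fin.induction with
    | zero => rw [h0]; exact bot_le
    | succ i ih =>
      by_contra hi
      have := hn i.succ
      have hd := relIndex_sup_dvd_relIndex (B := H i.succ) ih
      exact hcon ⟨H i.succ ⊔ N, inferInstance, right_lt_sup.2 hi,
        (hs i).imp (fun h q hq h' => h q hq (h'.trans hd)) fun h q hq h' => h q hq (h'.trans hd)⟩
  exact hne (top_le_iff.1 (hl ▸ this _))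

omit [Finite G] in
theorem PiSep.compl (h : PiSep π G) : PiSep πᶜ G := fun N h1 h2 =>
  let ⟨M, h3, h4, h5⟩ := h N h1 h2
  ⟨M, h3, h4, h5.symm.imp id fun h p hp hd h' => h' (h p hp hd)⟩

omit [Finite G] in
/-- extension of a `π`-separable group by a `π`- or `π'`-group -/
theorem piSep_ext [N.Normal] (h : (∀ p : ℕ, p.Prime → p ∣ ♯N → p ∈ π) ∨ ∀ p : ℕ, p.Prime → p ∣ ♯N → p ∉ π)
    (hq : PiSep π (G ⧸ N)) : PiSep π G := by
  intro M _ hne
  by_cases hNM : N ≤ M
  · obtain ⟨K, h1, h2, h3⟩ := hq (M.map (QuotientGroup.mk' N)) inferInstance fun e => hne (by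
      rw [← comap_map_eq_self (f := QuotientGroup.mk' N) (H := M) (by rwa [QuotientGroup.ker_mk']), e, comap_top])
    have e : M = (M.map (QuotientGroup.mk' N)).comap (QuotientGroup.mk' N) :=
      (comap_map_eq_self (by rwa [QuotientGroup.ker_mk'])).symm
    refine ⟨K.comap (QuotientGroup.mk' N), inferInstance, ?_, ?_⟩
    · rw [e]; exact (comap_lt_comap_of_surjective (QuotientGroup.mk'_surjective N)).2 h2
    · rw [e, relIndex_comap, map_comap_mk']; exact h3
  · have hd := relIndex_sup_dvd_relIndex (A := ⊥) (B := N) (N := M) bot_le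
    rw [relIndex_bot_left] at hd
    exact ⟨N ⊔ M, inferInstance, right_lt_sup.2 hNM,
      h.imp (fun h q hq h' => h q hq (h'.trans hd)) fun h q hq h' => h q hq (h'.trans hd)⟩

theorem piSep_of_pi (h : (∀ p : ℕ, p.Prime → p ∣ ♯G → p ∈ π) ∨ ∀ p : ℕ, p.Prime → p ∣ ♯G → p ∉ π) : PiSep π G :=
  fun N _ hne => ⟨⊤, inferInstance, hne.lt_top, by
    rw [relIndex_top_right]
    exact h.imp (fun h q hq h' => h q hq (h'.trans N.index_dvd_card)) fun h q hq h' => h q hq (h'.trans N.index_dvd_card)⟩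

omit [Finite G] in
theorem PiSep.exists_normal [Nontrivial G] (h : PiSep π G) : ∃ M : Subgroup G, M.Normal ∧ M ≠ ⊥ ∧
    ((∀ p : ℕ, p.Prime → p ∣ ♯M → p ∈ π) ∨ ∀ p : ℕ, p.Prime → p ∣ ♯M → p ∉ π) := by
  obtain ⟨M, h1, h2, h3⟩ := h ⊥ inferInstance bot_ne_top
  rw [relIndex_bot_left] at h3
  exact ⟨M, h1, h2.ne', h3⟩

theorem PiSep.subgroup (h : PiSep π G) (K : Subgroup G) : PiSep π K := by
  induction hn : ♯G using Nat.strong_induction_on generalizing G with
  | h n ih =>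
  rcases subsingleton_or_nontrivial G with hG | hG
  · exact fun N _ hne => absurd (Subsingleton.elim _ _) hne
  obtain ⟨M, h1, h2, h3⟩ := h.exists_normal
  have h4 := ih _ (hn ▸ card_quotient_lt h2) (h.quotient M) (K.map (QuotientGroup.mk' M)) rfl
  have hd : ♯(M.subgroupOf K) ∣ ♯M := by rw [← inf_subgroupOf_right, card_subgroupOf inf_le_right]; exact card_dvd_of_le inf_le_left
  refine piSep_ext (N := M.subgroupOf K)
    (h3.imp (fun h q hq h' => h q hq (h'.trans hd)) fun h q hq h' => h q hq (h'.trans hd)) ?_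
  let f : K →* K.map (QuotientGroup.mk' M) := (QuotientGroup.mk' M).subgroupMap K
  have hf : Function.Surjective f := MonoidHom.subgroupMap_surjective _ _
  have hk : f.ker = M.subgroupOf K := by
    ext x; simp [f, MonoidHom.mem_ker, Subtype.ext_iff, mem_subgroupOf]
  exact h4.of_surjective (f := ((QuotientGroup.quotientMulEquivOfEq hk).symm.trans
    (QuotientGroup.quotientKerEquivOfSurjective f hf)).symm.toMonoidHom) (MulEquiv.surjective _)

theorem PiSep.exists_hall (h : PiSep π G) : ∃ H : Subgroup G, IsPiHall π H := by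
  induction hn : ♯G using Nat.strong_induction_on generalizing G with
  | h n ih =>
  rcases subsingleton_or_nontrivial G with hG | hG
  · exact ⟨⊤, fun p hp hd => absurd (by simpa [Nat.card_of_subsingleton (1 : G)] using hd) hp.ne_one,
      fun p hp _ hd => absurd (by simpa using hd) hp.ne_one⟩
  obtain ⟨M, h1, h2, h3⟩ := h.exists_normal
  obtain ⟨H, hH⟩ := ih _ (hn ▸ card_quotient_lt h2) (h.quotient M) rfl
  rcases h3 with h3 | h3
  · refine ⟨H.comap (QuotientGroup.mk' M), fun p hp hd => ?_, by rw [index_comap_mk']; exact hH.2⟩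
    rw [card_comap_mk'] at hd
    exact ((Nat.Prime.dvd_mul hp).1 hd).elim (h3 p hp) (hH.1 p hp)
  · replace h3 : ∀ p : ℕ, p.Prime → p ∈ π → ¬ p ∣ ♯M := fun p hp h hd => h3 p hp hd h
    obtain ⟨B, hB1, hB2, hB3, hB4⟩ := exists_complement_of_coprime (le_comap_mk'' M H)
      le_normalizer_of_normal (by rw [relIndex_comap_mk']; exact (coprime_of_pi hH.1 h3).symm)
    rw [relIndex_comap_mk'] at hB4
    refine ⟨B, hB4 ▸ hH.1, fun p hp hπ hd => ?_⟩
    have h5 := card_mul_relIndex hB1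
    rw [card_comap_mk', hB4, mul_comm (♯M)] at h5
    rw [← relIndex_mul_index hB1, index_comap_mk', Nat.eq_of_mul_eq_mul_left Nat.card_pos h5] at hd
    exact ((Nat.Prime.dvd_mul hp).1 hd).elim (h3 p hp hπ) (hH.2 p hp hπ)

theorem PiSep.exists_conj_le (h : PiSep π G) (hH : IsPiHall π H) (hU : ∀ p : ℕ, p.Prime → p ∣ ♯U → p ∈ π) :
    ∃ g : G, MulAut.conj g • U ≤ H := by
  induction hn : ♯G using Nat.strong_induction_on generalizing G with
  | h n ih =>
  rcases subsingleton_or_nontrivial G with hG | hG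
  · exact ⟨1, (Subsingleton.elim _ _).le⟩
  obtain ⟨M, h1, h2, h3⟩ := h.exists_normal
  obtain ⟨g, hg⟩ := ih _ (hn ▸ card_quotient_lt h2) (h.quotient M)
    (isPiHall_map hH (QuotientGroup.mk'_surjective M)) (U := U.map (QuotientGroup.mk' M))
    (fun p hp hd => hU p hp (hd.trans (card_map_dvd U _))) rfl
  induction g using QuotientGroup.induction_on with
  | H g =>
  rw [← map_mk'_conj_smul, map_mk'_le_map_mk'_iff] at hg
  rcases h3 with h3 | h3
  · exact ⟨g, by rwa [sup_eq_left.2 (le_of_isPiHall_of_normal hH h3)] at hg⟩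
  · replace h3 : ∀ p : ℕ, p.Prime → p ∈ π → ¬ p ∣ ♯M := fun p hp h hd => h3 p hp hd h
    obtain ⟨c, -, hc⟩ := conj_le_cop le_normalizer_of_normal
      (disjoint_of_coprime_natCard (coprime_of_pi hH.1 h3)).eq_bot hg
      (by rw [card_conj_smul]; exact coprime_of_pi hU h3)
    exact ⟨c * g, by rwa [conj_smul_conj_smul] at hc⟩

theorem PiSep.exists_conj_eq (h : PiSep π G) (hH : IsPiHall π H) (hU : IsPiHall π U) : ∃ g : G, MulAut.conj g • U = H := by
  obtain ⟨g, hg⟩ := h.exists_conj_le hH hU.1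
  exact ⟨g, (eq_of_isPiHallOf_of_le (isPiHallOf_top.2 (isPiHall_conj_smul hU g)) hg le_top hH.1).symm⟩

theorem PiSep.exists_hall_ge (h : PiSep π G) (hU : ∀ p : ℕ, p.Prime → p ∣ ♯U → p ∈ π) :
    ∃ H : Subgroup G, IsPiHall π H ∧ U ≤ H := by
  obtain ⟨H, hH⟩ := h.exists_hall
  obtain ⟨g, hg⟩ := h.exists_conj_le hH hU
  exact ⟨_, isPiHall_conj_smul hH g⁻¹, conj_smul_le_iff_le.1 hg⟩

theorem PiSep.exists_hallOf_ge (h : PiSep π K) (hUK : U ≤ K) (hU : ∀ p : ℕ, p.Prime → p ∣ ♯U → p ∈ π) :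
    ∃ H : Subgroup G, IsPiHallOf π H K ∧ U ≤ H := by
  obtain ⟨H, hH, hle⟩ := h.exists_hall_ge (U := U.subgroupOf K) (by rwa [card_subgroupOf hUK])
  exact ⟨_, isPiHallOf_map_subtype hH, by rw [← map_subtype_subgroupOf hUK]; exact map_mono hle⟩

theorem PiSep.exists_conj_le_of (h : PiSep π K) (hH : IsPiHallOf π H K) (hUK : U ≤ K)
    (hU : ∀ p : ℕ, p.Prime → p ∣ ♯U → p ∈ π) : ∃ k ∈ K, MulAut.conj k • U ≤ H := by
  obtain ⟨g, hg⟩ := h.exists_conj_le ((isPiHallOf_iff hH.1).1 hH) (U := U.subgroupOf K) (by rwa [card_subgroupOf hUK])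
  refine ⟨g, g.2, ?_⟩
  have := map_mono (f := K.subtype) hg
  rwa [map_conj_smul, map_subtype_subgroupOf hUK, map_subtype_subgroupOf hH.1] at this

theorem PiSep.exists_conj_eq_of (h : PiSep π K) (hH : IsPiHallOf π H K) (hU : IsPiHallOf π U K) :
    ∃ k ∈ K, MulAut.conj k • U = H := by
  obtain ⟨k, hk, hg⟩ := h.exists_conj_le_of hH hU.1 hU.2.1
  exact ⟨k, hk, (eq_of_isPiHallOf_of_le (isPiHallOf_conj_smul_of_mem hU (le_normalizer hk)) hg hH.1 hH.2.1).symm⟩

omit [Finite G] in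
/-- three-step chains -/
theorem piSep_of_three (hDE : D ≤ E) (hEL : E ≤ L) (hD : L ≤ 𝒩 D) (hE : L ≤ 𝒩 E) (h1 : ∀ p : ℕ, p.Prime → p ∣ ♯D → p ∈ π)
    (h2 : ∀ p : ℕ, p.Prime → p ∣ D.relIndex E → p ∉ π) (h3 : ∀ p : ℕ, p.Prime → p ∣ E.relIndex L → p ∈ π) : PiSep π L := by
  have := (normal_subgroupOf_iff_le_normalizer (hDE.trans hEL)).2 hD
  have := (normal_subgroupOf_iff_le_normalizer hEL).2 hE
  refine piSep_of_chain (n := 3) (H := ![⊥, D.subgroupOf L, E.subgroupOf L, ⊤]) rfl rfl (fun i => ?_) fun i => ?_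
  · fin_cases i <;> simp <;> infer_instance
  · fin_cases i
    · exact Or.inl (by simpa [card_subgroupOf (hDE.trans hEL)] using h1)
    · exact Or.inr (by simpa [relIndex_subgroupOf hEL] using h2)
    · exact Or.inl fun q hq h => h3 q hq ((relIndex_top_right (E.subgroupOf L)).subst (motive := (q ∣ ·)) h)

/-- extension theorem for `C_π` -/
theorem cpi_ext [A.Normal] (hA : Cfsg.IsCPiGroup π A) (hQ : Cfsg.IsCPiGroup π (G ⧸ A)) : Cfsg.IsCPiGroup π G := by
  have hA' : ∀ {D E : Subgroup G}, IsPiHallOf π D A → IsPiHallOf π E A → ∃ a ∈ A, MulAut.conj a • D = E := fun {D E} hD hE => by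
    obtain ⟨a, ha⟩ := hA.2 _ _ ((isPiHallOf_iff hD.1).1 hD) ((isPiHallOf_iff hE.1).1 hE)
    refine ⟨a, a.2, ?_⟩
    have := congrArg (map A.subtype) ha
    rw [map_subtype_subgroupOf hE.1] at this
    rw [this]
    change _ = map A.subtype (MulAut.conj a • D.subgroupOf A)
    rw [map_conj_smul, map_subtype_subgroupOf hD.1]; rfl
  have key : ∀ {D K : Subgroup G}, IsPiHallOf π D A → A ≤ K → (∀ p : ℕ, p.Prime → p ∣ A.relIndex K → p ∈ π) →
      PiSep π (K ⊓ 𝒩 D : Subgroup G) := fun {D K} hD hAK hK =>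
    piSep_of_three (D := D) (E := A ⊓ 𝒩 D) (le_inf hD.1 le_normalizer) (inf_le_inf_right _ hAK) inf_le_right
      (inf_le_right.trans ((le_inf le_normalizer_of_normal le_normalizer).trans inf_normalizer_le_normalizer_inf)) hD.2.1
      (fun p hp h h' => (isPiHallOf_of_le hD (le_inf hD.1 le_normalizer) inf_le_left).2.2 p hp h' h) fun p hp h => hK p hp <| h.trans <| by
        rw [show A ⊓ 𝒩 D = A ⊓ (K ⊓ 𝒩 D) by rw [← inf_assoc, inf_eq_left.2 hAK], inf_relIndex_right]
        exact relIndex_dvd_of_le_norm inf_le_left le_normalizer_of_normal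
  refine ⟨?_, fun H H' hH hH' => ?_⟩
  · obtain ⟨D, hD⟩ := hA.1
    replace hD := isPiHallOf_map_subtype hD
    generalize D.map A.subtype = D at hD
    obtain ⟨K, hK⟩ := hQ.1
    have h1 := le_comap_mk'' A K
    obtain ⟨H, hH, h2⟩ := (key hD h1 (by rw [relIndex_comap_mk']; exact hK.1)).exists_hallOf_ge (le_inf (hD.1.trans h1) le_normalizer) hD.2.1
    refine ⟨H, hH.2.1, fun p hp hπ hd => ?_⟩
    rw [← relIndex_mul_index hH.1, ← relIndex_mul_index (inf_le_left : K.comap (QuotientGroup.mk' A) ⊓ 𝒩 D ≤ _), index_comap_mk',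
      hp.dvd_mul, hp.dvd_mul] at hd
    refine hd.elim (hH.2.2 p hp hπ) fun hd => hd.elim (fun hd => hD.2.2 p hp hπ (hd.trans ?_)) (hK.2 p hp hπ)
    have h3 : K.comap (QuotientGroup.mk' A) = (K.comap (QuotientGroup.mk' A) ⊓ 𝒩 D) ⊔ A := by
      refine le_antisymm (fun g hg => ?_) (sup_le inf_le_left h1)
      obtain ⟨k, hk, e⟩ := hA' (isPiHallOf_conj_smul_of_mem hD (le_normalizer_of_normal (mem_top g |> fun _ => mem_top g))) hD
      rw [conj_smul_conj_smul, conj_smul_eq_self_iff] at e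
      rw [show g = k⁻¹ * (k * g) by group]
      exact mul_mem (mem_sup_right (inv_mem hk)) (mem_sup_left (mem_inf.2 ⟨mul_mem (h1 hk) hg, e⟩))
    conv_lhs => rw [h3]
    rw [← h3]; conv_lhs => arg 2; rw [h3]
    rw [← relIndex_inf_dvd_relIndex_sup le_normalizer_of_normal]
    exact relIndex_dvd_of_le_left _ (le_inf (hD.1.trans h1) le_normalizer)
  · obtain ⟨g, hg⟩ := hQ.2 _ _ (isPiHall_map hH (QuotientGroup.mk'_surjective A)) (isPiHall_map hH' (QuotientGroup.mk'_surjective A))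
    induction g using QuotientGroup.induction_on with
    | H g =>
    change _ = MulAut.conj (g : G ⧸ A) • H.map (QuotientGroup.mk' A) at hg
    rw [← map_mk'_conj_smul] at hg
    have h1 := isPiHall_conj_smul hH g
    obtain ⟨a, ha, e⟩ := hA' (isPiHallOf_inf_normal (isPiHallOf_top.2 h1) le_top le_normalizer_of_normal)
      (isPiHallOf_inf_normal (isPiHallOf_top.2 hH') le_top le_normalizer_of_normal)
    have h2 := isPiHall_conj_smul h1 a
    rw [smul_inf, conj_smul_eq_self_iff.2 (le_normalizer ha)] at e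
    have h3 : MulAut.conj a • MulAut.conj g • H ≤ H' ⊔ A := by
      rw [← conj_smul_eq_self_iff.2 (le_normalizer (mem_sup_right ha : a ∈ H' ⊔ A))]
      exact smul_mono_right _ (map_mk'_le_map_mk'_iff.1 hg.ge)
    have h4 : ∀ U : Subgroup G, U ≤ 𝒩 (U ⊓ A) := fun U => (le_inf le_normalizer le_normalizer_of_normal).trans inf_normalizer_le_normalizer_inf
    obtain ⟨k, -, hk⟩ := (key (isPiHallOf_inf_normal (isPiHallOf_top.2 hH') le_top le_normalizer_of_normal) (le_sup_right : A ≤ H' ⊔ A)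
      (fun p hp h => hH'.1 p hp (h.trans (by rw [relIndex_sup_right]; exact relIndex_dvd_card _ _)))).exists_conj_eq_of
      (isPiHallOf_of_le (isPiHallOf_top.2 hH') (le_inf le_sup_left (h4 _)) le_top)
      (isPiHallOf_of_le (isPiHallOf_top.2 h2) (le_inf h3 (e ▸ h4 _)) le_top)
    exact ⟨k * a * g, by rw [← hk, conj_smul_conj_smul, conj_smul_conj_smul]; rfl⟩

end Cfsg.Agent.GS
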