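/-
Nilpotent maximal invariant subgroups under coprime action.
-/
import Cfsg.Agent.GS.Cl2
import Cfsg.Agent.GS.Odd

namespace Cfsg.Agent.GS

open Subgroup Cfsg.Agent.H1 Cfsg.Agent.BG
open Cfsg.Agent.H2 hiding card_lt_of_lt card_lt_of_ne_top isMulCommutative_of_le isPGroup_zpowers_iff mem_of_pow_mem_of_coprime inf_eq_bot_of_cop exists_maxElem_ge Sec
open Cfsg.Agent.H8 (Op Opp Fit SN)
open Cfsg.Agent.L (FPF)
open scoped commutatorElement Pointwise

universe u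
variable {G : Type u} [Group G] [Finite G]
variable {p q r k n : ℕ} {π ρ : Set ℕ} {A B C D E H K L M N P Q R S T U V W X Y Z : Subgroup G} {a b c g t u v x y z : G}

omit [Finite G] in
theorem solv_of_sec (hK : K ≤ 𝒩 N) (h1 : Group.IsSolvable N) (h2 : Group.IsSolvable (sec N K)) : Group.IsSolvable K := by
  let f : K →* sec N K := ((secMk N).comp (inclusion hK)).codRestrict _ fun x => secMk_mem_sec x.2 (hK x.2)
  let g : (N ⊓ K : Subgroup G) →* K := inclusion inf_le_right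
  have : Group.IsSolvable (N ⊓ K : Subgroup G) := isSolvable_of_le inf_le_left h1
  exact Group.isSolvable_of_ker_le_range g f fun x hx =>
    ⟨⟨x, (secMk_eq_one_iff (x := inclusion hK x)).1 (congrArg Subtype.val hx), x.2⟩, rfl⟩

theorem card_sec_lt (hK : K ≤ 𝒩 N) (h : N ≤ K) (h1 : N ≠ ⊥) : ♯(sec N K) < ♯K := by
  rw [card_sec N K hK, ← card_mul_relIndex h]
  exact lt_mul_of_one_lt_left (Nat.pos_of_ne_zero FiniteIndex.index_ne_zero) ((one_lt_card_iff_ne_bot N).2 h1)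

theorem exists_inv_sylIn [Fact p.Prime] (hA : A ≤ 𝒩 K) (hc : (♯A).Coprime ♯K) (hU : IsPGroup p U) (h1 : U ≤ K) (h2 : A ≤ 𝒩 U) :
    ∃ P, SylIn p P K ∧ U ≤ P ∧ A ≤ 𝒩 P :=
  let ⟨P, h3, h4⟩ := exists_invariant_isSylowIn_ge hA hc (solv_or_solv' hc) h1 hU h2
  ⟨P, sylIn_iff.2 h3, h4⟩

theorem solv_of_max_nil (hA : A ≤ 𝒩 K) (hc : (♯A).Coprime ♯K) (hM : M < K) (hAM : A ≤ 𝒩 M)
    (hm : ∀ H, M ≤ H → H < K → A ≤ 𝒩 H → H = M) (hn : Group.IsNilpotent M) (hS : SylIn 2 S M) (h2 : ⁅⁅S, S⁆, S⁆ = ⊥) :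
    Group.IsSolvable K := by
  induction hk : ♯K using Nat.strong_induction_on generalizing G with
  | h n ih =>
  by_cases h0 : ∃ N ≤ M, N ≠ ⊥ ∧ K ≤ 𝒩 N ∧ A ≤ 𝒩 N
  · obtain ⟨N, h1, h3, h4, h5⟩ := h0
    have h6 := hM.le.trans h4
    refine solv_of_sec h4 (isSolvable_of_le h1 (isSolvable_of_nil hn)) (ih _ (hk ▸ card_sec_lt h4 (h1.trans hM.le) h3) (sec_le_normalizer hA)
      ((hc.coprime_dvd_left (card_sec_dvd N A h5)).coprime_dvd_right (card_sec_dvd N K h4))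
      (lt_of_le_not_ge (sec_mono hM.le) fun e => hM.not_ge (((sec_le_sec_iff h4 h6).1 e).trans (sup_le le_rfl h1)))
      (sec_le_normalizer hAM) (fun H h7 h8 h9 => ?_) (isNilpotent_sec hn) (hS.sec h6) ?_ rfl)
    · rw [← sec_unsec N H, hm _ ((sec_le_iff h6).1 h7) (lt_of_le_not_ge (unsec_le_of_le_sec h4 (h1.trans hM.le) h8.le)
        fun e => h8.not_ge ((sec_le_iff h4).2 e)) (le_normalizer_unsec h5 h9)]
    · have h7 := hS.le.trans h6
      rw [← sec_commutator h7 h7, ← sec_commutator ((der_le S).trans h7) h7, h2, sec_eq_bot_iff bot_le]; exact bot_le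
  have h1 : ∀ N ≤ M, N ≠ ⊥ → M ≤ 𝒩 N → A ≤ 𝒩 N → K ⊓ 𝒩 N = M := fun N h1 h3 h4 h5 =>
    hm _ (le_inf hM.le h4) (inf_lt_left.2 fun e => h0 ⟨N, h1, h3, e, h5⟩) (le_norm_inf_norm hA h5)
  have h3 : ∀ p, [Fact p.Prime] → Op p M ≠ ⊥ → SylIn p (Op p M) K := fun p _ h => sylIn_of_sylIn_normalizer (by
    rw [h1 _ (H8.Op_le p M) h (H8.le_normalizer_Op p M) (H8.le_normalizer_Op_of p hAM)]; exact sylIn_Op_of_nil hn)
  by_cases h4 : ∃ p : ℕ, p.Prime ∧ p ≠ 2 ∧ p ∣ ♯M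
  · obtain ⟨p, hp, h4, h5⟩ := h4
    have := Fact.mk hp
    have h6 := (sylIn_Op_of_nil hn).ne_bot h5
    have hP := h3 p h6
    have hAP := H8.le_normalizer_Op_of p hAM
    obtain ⟨Z, h7, h8, h9, h10⟩ := exists_gt h4 hP h6
    replace h10 := h10 (by
      rw [h1 Z (h7.trans (H8.Op_le p M)) h8 ((H8.le_normalizer_Op p M).trans h9) (hAP.trans h9)]; exact pNil_of_isNilpotent hn)
    have h11 := pNil_iff_card.1 h10
    have h12 := hP.le.trans (le_normalizer_resOf p K)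
    have h13 := hA.trans (normalizer_le_normalizer_resOf p K)
    have h14 := h10.inf_eq_bot hP.pgrp
    have h15 : Opp p M ≤ M ⊓ resOf p K := le_inf (H8.Opp_le p M) fun x hx => mem_resOf (hM.le (H8.Opp_le p M hx))
      ((H8.Opp_coprime p M).coprime_dvd_left (orderOf_dvd_card_of_mem hx))
    rw [← hP.resOf_sup, sup_comm]
    refine isSolvable_sup h12 (isSolvable_of_isPGroup hP.pgrp) (ih _ (hk ▸ card_lt_of_lt (lt_of_le_not_ge (resOf_le p K)
      fun e => h6 (h14 ▸ (inf_eq_left.2 (hP.le.trans e)).symm))) (A := A ⊔ Op p M) (M := M ⊓ resOf p K) (sup_le h13 h12)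
      (coprime_sup hAP (coprime_of_le_right hc (resOf_le p K)) (coprime_of_pgroup hP.pgrp h11))
      (inf_lt_right.2 fun e => hM.not_ge (hP.resOf_sup ▸ sup_le e (H8.Op_le p M)))
      (sup_le (le_normalizer_inf hAM h13) (le_normalizer_inf ((H8.Op_le p M).trans le_normalizer) h12)) (fun H e1 e2 e3 => ?_)
      (isNilpotent_of_le inf_le_left hn) (hS.mono ((le_Opp_of_nil hn hS.le (coprime_primes_pgroup hS.pgrp h4.symm)).trans h15) inf_le_left) h2 rfl)
    refine le_antisymm (le_inf (le_sup_right.trans (hm (Op p M ⊔ H) ?_ (lt_of_le_not_ge (sup_le hP.le (e2.le.trans (resOf_le p K))) fun e => e2.not_ge ?_)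
      (le_normalizer_sup hAP (le_sup_left.trans e3))).le) e2.le) e1
    · exact (H8.Op_sup_Opp_of_nilpotent hn p).ge.trans (sup_le_sup_left (h15.trans e1) _)
    · have := sup_inf_assoc_norm' (le_sup_right.trans e3) e2.le
      rw [h14, bot_sup_eq] at this
      exact (le_inf ((resOf_le p K).trans e) le_rfl).trans this.le
  have h5 : IsPGroup 2 M := isPGroup_iff_forall_prime.2 fun p hp hd => by_contra fun e => h4 ⟨p, hp, e, hd⟩
  by_cases h6 : M = ⊥
  · obtain ⟨p, hp, hd⟩ := Nat.exists_prime_and_dvd ((one_lt_card_iff_ne_bot K).2 hM.ne_bot).ne'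
    have := Fact.mk hp
    obtain ⟨P, hP, -, h7⟩ := exists_inv_sylIn hA hc (IsPGroup.of_bot (p := p)) bot_le le_normalizer_of_normal
    rw [← hP.le.eq_or_lt.resolve_right fun e => hP.ne_bot hd ((hm P (h6 ▸ bot_le) e h7).trans h6)]
    exact isSolvable_of_isPGroup hP.pgrp
  have h7 := h3 2
  rw [H8.Op_eq_self h5] at h7
  replace h7 := h7 h6
  obtain rfl := hS.max M le_rfl h5 hS.le
  have h8 := zc_ne_bot hn h6
  have h9 : Cl2 K M := ⟨h7, le_cent_iff_comm.2 h2, (h1 _ inf_le_left h8 (le_norm_Zc M) (hAM.trans (normalizer_le_Zc M))).le⟩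
  have h10 := h9.pNil (Nat.coprime_two_right.1 (hc.coprime_dvd_right (by
    by_contra e; exact h6 (h7.eq_bot_iff.2 e)))) hA hAM fun W e1 e2 e3 => (h1 W e1 (ne_bot_mono h8 e2) (h9.norm e2 e1) e3).le
  rw [← h7.resOf_sup, sup_comm]
  exact isSolvable_sup (h7.le.trans (le_normalizer_resOf 2 K)) (isSolvable_of_nil hn) (odd_order (Nat.coprime_two_right.1 (pNil_iff_card.1 h10)))

theorem solv_of_inv_nil (hA : A ≤ 𝒩 K) (hc : (♯A).Coprime ♯K) (h : ∀ H < K, A ≤ 𝒩 H → Group.IsNilpotent H) : Group.IsSolvable K := by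
  induction hk : ♯K using Nat.strong_induction_on generalizing G with
  | h n ih =>
  by_cases h0 : ∃ N < K, N ≠ ⊥ ∧ K ≤ 𝒩 N ∧ A ≤ 𝒩 N
  · obtain ⟨N, h1, h3, h4, h5⟩ := h0
    refine solv_of_sec h4 (isSolvable_of_nil (h N h1 h5)) (ih _ (hk ▸ card_sec_lt h4 h1.le h3) (sec_le_normalizer hA)
      ((hc.coprime_dvd_left (card_sec_dvd N A h5)).coprime_dvd_right (card_sec_dvd N K h4)) (fun H h8 h9 => ?_) rfl)
    rw [← sec_unsec N H]
    exact isNilpotent_sec (h _ (lt_of_le_not_ge (unsec_le_of_le_sec h4 h1.le h8.le)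
      fun e => h8.not_ge ((sec_le_iff h4).2 e)) (le_normalizer_unsec h5 h9))
  by_cases h4 : ∃ p : ℕ, p.Prime ∧ p ≠ 2 ∧ p ∣ ♯K
  swap
  · exact isSolvable_of_isPGroup (isPGroup_iff_forall_prime.2 fun p hp hd => by_contra fun e => h4 ⟨p, hp, e, hd⟩)
  obtain ⟨p, hp, h4, h5⟩ := h4
  have := Fact.mk hp
  obtain ⟨P, hP, -, h7⟩ := exists_inv_sylIn hA hc (IsPGroup.of_bot (p := p)) bot_le le_normalizer_of_normal
  by_cases h1 : P = K
  · exact h1 ▸ isSolvable_of_isPGroup hP.pgrp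
  obtain ⟨Z, h8, h9, h10, h11⟩ := exists_gt h4 hP (hP.ne_bot h5)
  replace h11 := h11 (pNil_of_isNilpotent (h _ (inf_lt_left.2 fun e => h0 ⟨Z, h8.trans_lt (hP.le.lt_of_ne h1), h9, e, h7.trans h10⟩)
    (le_norm_inf_norm hA (h7.trans h10))))
  refine (h0 ⟨resOf p K, lt_of_le_not_ge (resOf_le p K) fun e => hP.ne_bot h5 (h11.inf_eq_bot hP.pgrp ▸ (inf_eq_left.2 (hP.le.trans e)).symm),
    fun e => h1 ?_, le_normalizer_resOf p K, hA.trans (normalizer_le_normalizer_resOf p K)⟩).elim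
  rw [← hP.resOf_sup, e, bot_sup_eq]

theorem struct_of_inv_nil (hA : A ≤ 𝒩 K) (hc : (♯A).Coprime ♯K) (h : ∀ H < K, A ≤ 𝒩 H → Group.IsNilpotent H)
    (hn : ¬ Group.IsNilpotent K) : ∃ (p q : ℕ) (P Q : Subgroup G), p.Prime ∧ q.Prime ∧ p ≠ q ∧ IsPGroup p P ∧ SylIn q Q K ∧ Q ≠ ⊥ ∧
      K ≤ 𝒩 Q ∧ A ≤ 𝒩 Q ∧ P ⊔ Q = K := by
  have hs := solv_of_inv_nil hA hc h
  have h1 : ⁅K, K⁆ < K := commutator_lt_self hs fun e => hn (e ▸ inferInstance)
  obtain ⟨p, hp, hd⟩ := Nat.exists_prime_and_dvd (mt relIndex_eq_one.1 h1.not_ge)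
  have := Fact.mk hp
  obtain ⟨P, hP, -, h7⟩ := exists_inv_sylIn hA hc (IsPGroup.of_bot (p := p)) bot_le le_normalizer_of_normal
  have h2 : resOf p K < K := lt_of_le_not_ge (resOf_le p K) fun e => hP.not_dvd_relIndex_of_le
    (le_commutator_of_resOf_eq (le_antisymm (resOf_le p K) e) hP.pgrp hP.le) hd
  have h3 := hA.trans (normalizer_le_normalizer_resOf p K)
  have h4 := h _ h2 h3
  have h5 : ∀ q, [Fact q.Prime] → q ≠ p → SylIn q (Op q (resOf p K)) K := fun q hq e => (sylIn_Op_of_nil h4).trans_of_not_dvd h2.le (by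
    obtain ⟨k, hk⟩ := relIndex_resOf (p := p) K
    exact hk ▸ fun h => e ((Nat.prime_dvd_prime_iff_eq hq.out hp).1 (hq.out.dvd_of_dvd_pow h)))
  have h6 : ∀ q, K ≤ 𝒩 (Op q (resOf p K)) := fun q => H8.le_normalizer_Op_of q (le_normalizer_resOf p K)
  by_contra h8
  refine hn (nil_of_forall_sylIn fun q hq => ?_)
  have := Fact.mk hq
  by_cases e : q = p
  swap
  · exact ⟨_, h5 q e, h6 q⟩
  subst e
  refine ⟨P, hP, hP.resOf_sup ▸ sup_le (H8.le_of_nilpotent_of_Op_le h4 fun r hr => ?_) le_normalizer⟩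
  have := Fact.mk hr
  by_cases e : r = q
  · exact (hP.normal_le (e ▸ H8.Op_isPGroup r _) ((H8.Op_le r _).trans h2.le) (hP.le.trans (h6 r))).trans le_normalizer
  by_cases e1 : Op r (resOf q K) = ⊥
  · exact e1 ▸ bot_le
  have h9 := H8.le_normalizer_Op_of r h3
  exact (le_cent_of_nil (h (P ⊔ Op r (resOf q K)) ((sup_le hP.le (h5 r e).le).lt_of_ne fun e2 =>
    h8 ⟨q, r, P, _, hq, hr, Ne.symm e, hP.pgrp, h5 r e, e1, h6 r, h9, e2⟩) (le_normalizer_sup h7 h9)) le_sup_right le_sup_left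
    (coprime_pgroups (H8.Op_isPGroup r _) hP.pgrp e)).trans (cent_le_norm P)

theorem nil_sl {N A : Type*} [Group N] [Group A] {φ : A →* MulAut N} {K : Subgroup N} : Group.IsNilpotent (sl φ K) ↔ Group.IsNilpotent K :=
  have e : K ≃* sl φ K := equivMapOfInjective K _ SemidirectProduct.inl_injective
  ⟨fun _ => Group.nilpotent_of_mulEquiv e.symm, fun _ => Group.nilpotent_of_mulEquiv e⟩

theorem solv_of_sl_top {N A : Type*} [Group N] [Group A] {φ : A →* MulAut N} (h : Group.IsSolvable (sl φ ⊤)) : Group.IsSolvable N :=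
  Group.isSolvable_of_surjective (f := (slTopEquiv φ).symm.toMonoidHom) (MulEquiv.surjective _)

theorem solv_of_coatom_nil (hM : IsCoatom M) (hn : Group.IsNilpotent M) (hS : SylIn 2 S M) (h2 : ⁅⁅S, S⁆, S⁆ = ⊥) : Group.IsSolvable G := by
  have := solv_of_max_nil (A := ⊥) (K := ⊤) bot_le (by simp) hM.1.lt_top bot_le
    (fun H h1 h3 _ => (h1.eq_or_lt.resolve_right fun e => h3.ne (hM.2 H e)).symm) hn hS h2
  exact Group.isSolvable_of_surjective (f := (⊤ : Subgroup G).subtype) fun x => ⟨⟨x, trivial⟩, rfl⟩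

end Cfsg.Agent.GS
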