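import Cfsg.Agent.H6.J3A
import Cfsg.Agent.H6.Simp3
set_option maxRecDepth 100000
set_option Elab.async false
namespace Cfsg.Agent.H6.MN
open Cfsg.Agent.H6
universe u

noncomputable def il : List ℕ := [0,1,2,3,4]
noncomputable abbrev io : ℕ → ℕ := iota il
noncomputable def C1 : List (List ℕ) := []
noncomputable def r0 : List ℕ := [0,1,0,1,0,1]
noncomputable def r1 : List ℕ := [0,2,0,2]
noncomputable def r2 : List ℕ := [0,3,0,3]
noncomputable def r3 : List ℕ := [0,4,0,4,0,4]
noncomputable def r4 : List ℕ := [1,2,1,2,1,2,1,2,1,2]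
noncomputable def r5 : List ℕ := [1,3,1,3]
noncomputable def r6 : List ℕ := [1,4,1,4,1,4,1,4]
noncomputable def r7 : List ℕ := [2,3,2,3,2,3]
noncomputable def r8 : List ℕ := [2,4,2,4]
noncomputable def r9 : List ℕ := [3,4,3,4]
noncomputable def r10 : List ℕ := [0,1,2,0,1,2,0,1,2,0,1,2,0,1,2]
noncomputable def r11 : List ℕ := [1,2,3,1,2,3,1,2,3,1,2,3,1,2,3]
noncomputable def m2n1 : Net := (Net.cons (nat_lit 1) (nat_lit 1)
  Net.nil)
noncomputable def m2l : List Net := [Net.nil,m2n1]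
noncomputable abbrev m2 : ℕ → Net := lk Net.nil m2l
theorem m2ok : NetsOk 2 m2 vT := netsOk_of (by decide +kernel)
theorem m2s0 : Sat io [] (finG m2ok) := fin_sat_nil _ (k := 1) (n := 5) (by decide +kernel)
noncomputable def C3 : List (List ℕ) := []
theorem cl4 : Clo.{u} io C3 [] 2 m2 1 (mkB []) := Clo.start (by decide +kernel)
theorem imp5 : Imp.{u} io C3 C1 := Imp.of_chk (pfs := []) (by decide +kernel)
theorem ix6 : Idx.{u} io C3 [] [] 1 := (Idx.triv (Bound.nil) (by norm_num)).of_imp imp5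
noncomputable def lk7 : List (List ℕ × List ℕ × Pf) := []
noncomputable def O8 : ℕ := (nat_lit 2)
noncomputable def M9 : ℕ := (nat_lit 3)
noncomputable def b10 : ℕ := (nat_lit 1)
theorem cl11 : Clo.{u} io C3 [] 2 m2 M9 (mkB [(1,b10)]) := cl4.new (k := 0) (b := 1) (q := 0) (p := 1) (r := 200) (n := 1) (O := O8) (by decide +kernel) (lks := lk7) (by decide +kernel) (gens_of_lall2 (m := []) (by decide +kernel)) ix6 (by decide +kernel)
noncomputable def b12 : ℕ := (nat_lit 3)
theorem cl13 : Clo.{u} io C3 [] 2 m2 M9 (mkB [(1,b12)]) := cl11.ops (os := [Op.inv 1]) (by decide +kernel) (by decide +kernel)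
theorem sat15 : Sat io C3 (finG m2ok) := m2s0.fin (k := 1) (by decide +kernel)
theorem bd14 : Bound.{u} io C3 [1] 2 := cl13.bound (by decide +kernel) sat15 ((Bound.nil).of_imp imp5)
noncomputable def m16n1 : Net := (Net.cons (nat_lit 1) (nat_lit 10)
  Net.nil)
noncomputable def m16n2 : Net := (Net.cons (nat_lit 1) (nat_lit 5)
  Net.nil)
noncomputable def m16l : List Net := [Net.nil,m16n1,m16n2]
noncomputable abbrev m16 : ℕ → Net := lk Net.nil m16l
theorem m16ok : NetsOk 5 m16 vT := netsOk_of (by decide +kernel)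
theorem m16s0 : Sat io [] (finG m16ok) := fin_sat_nil _ (k := 3) (n := 5) (by decide +kernel)
noncomputable def C17 : List (List ℕ) := [r4]
theorem cl18 : Clo.{u} io C17 [1] 5 m16 1 (mkB []) := Clo.start (by decide +kernel)
theorem imp19 : Imp.{u} io C17 C3 := Imp.of_chk (pfs := []) (by decide +kernel)
theorem ix20 : Idx.{u} io C17 [1] [] 2 := (Idx.triv bd14 (by norm_num)).of_imp imp19
noncomputable def lk21 : List (List ℕ × List ℕ × Pf) := []
noncomputable def O22 : ℕ := (nat_lit 6)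
noncomputable def M23 : ℕ := (nat_lit 7)
noncomputable def b24 : ℕ := (nat_lit 1)
theorem cl25 : Clo.{u} io C17 [1] 5 m16 M23 (mkB [(2,b24)]) := cl18.new (k := 0) (b := 2) (q := 0) (p := 1) (r := 200) (n := 2) (O := O22) (by decide +kernel) (lks := lk21) (by decide +kernel) (gens_of_lall2 (m := []) (by decide +kernel)) ix20 (by decide +kernel)
noncomputable def b26 : ℕ := (nat_lit 3)
theorem cl27 : Clo.{u} io C17 [1] 5 m16 M23 (mkB [(2,b26)]) := cl25.ops (os := [Op.inv 2]) (by decide +kernel) (by decide +kernel)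
theorem ix28 : Idx.{u} io C17 [1] [] 2 := (Idx.triv bd14 (by norm_num)).of_imp imp19
noncomputable def lk29 : List (List ℕ × List ℕ × Pf) := []
noncomputable def O30 : ℕ := (nat_lit 24)
noncomputable def M31 : ℕ := (nat_lit 31)
noncomputable def b32 : ℕ := (nat_lit 7)
theorem cl33 : Clo.{u} io C17 [1] 5 m16 M31 (mkB [(2,b32)]) := cl27.new (k := 0) (b := 2) (q := 2) (p := 3) (r := 200) (n := 2) (O := O30) (by decide +kernel) (lks := lk29) (by decide +kernel) (gens_of_lall2 (m := []) (by decide +kernel)) ix28 (by decide +kernel)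
noncomputable def b34 : ℕ := (nat_lit 31)
theorem cl35 : Clo.{u} io C17 [1] 5 m16 M31 (mkB [(2,b34)]) := cl33.ops (os := [Op.inv 2,Op.rel 2 [1] 2 [1,2,1,2,1,2,1] [([],1)]]) (by decide +kernel) (by decide +kernel)
theorem sat37 : Sat io C17 (finG m16ok) := m16s0.fin (k := 3) (by decide +kernel)
theorem bd36 : Bound.{u} io C17 [1,2] 10 := cl35.bound (by decide +kernel) sat37 (bd14.of_imp imp19)
noncomputable def m38n0 : Net := (Net.cons (nat_lit 1) (nat_lit 16)
  (Net.cons (nat_lit 1) (nat_lit 1)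
  Net.nil))
noncomputable def m38n1 : Net := (Net.cons (nat_lit 1) (nat_lit 2)
  (Net.cons (nat_lit 1) (nat_lit 8)
  Net.nil))
noncomputable def m38n2 : Net := (Net.cons (nat_lit 3) (nat_lit 6)
  (Net.cons (nat_lit 1) (nat_lit 8)
  (Net.cons (nat_lit 1) (nat_lit 18)
  (Net.cons (nat_lit 1) (nat_lit 8)
  (Net.cons (nat_lit 3) (nat_lit 6)
  Net.nil)))))
noncomputable def m38l : List Net := [m38n0,m38n1,m38n2]
noncomputable abbrev m38 : ℕ → Net := lk Net.nil m38l
theorem m38ok : NetsOk 6 m38 vT := netsOk_of (by decide +kernel)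
theorem m38s0 : Sat io [] (finG m38ok) := fin_sat_nil _ (k := 3) (n := 5) (by decide +kernel)
noncomputable def C39 : List (List ℕ) := [r0,r1,r4,r10]
theorem cl40 : Clo.{u} io C39 [1,2] 6 m38 1 (mkB []) := Clo.start (by decide +kernel)
theorem imp41 : Imp.{u} io C39 C17 := Imp.of_chk (pfs := [[([],5)]]) (by decide +kernel)
theorem der43 : Der 5 (finX 5) (cl (finG m16ok) [[2]]) (fun _ => Net.nil) := Der.zero (finModel m16ok).inj
noncomputable def ns44 : ℕ → Net := upd (fun _ => Net.nil) 0 (m16 2)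
theorem der45 : Der 5 (finX 5) (cl (finG m16ok) [[2]]) ns44 := der43.add (wp_mem_cl (w := [2]) (by decide)) (rep_letter (finModel m16ok) 2) 0
noncomputable def L46 : Lev := Lev.cons 0 2 [[0]] Lev.nil
theorem lc47 : Lev.chk 5 0 ns44 vT 100 L46 = true := by decide +kernel
theorem lb48 : 2 ≤ Nat.card (cl (finG m16ok) [[2]]) := le_of_eq_of_le (by decide +kernel) (der45.card_ge lc47)
theorem ix42 : Idx.{u} io C39 [1,2] [[2]] 5 := (Idx.of bd36 sat37 (by decide +kernel) lb48 (by decide +kernel)).of_imp imp41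
noncomputable def lk49 : List (List ℕ × List ℕ × Pf) := [([2],[2],[([0],3)])]
noncomputable def O50 : ℕ := (nat_lit 62)
noncomputable def M51 : ℕ := (nat_lit 63)
noncomputable def b52 : ℕ := (nat_lit 1)
theorem cl53 : Clo.{u} io C39 [1,2] 6 m38 M51 (mkB [(0,b52)]) := cl40.new (k := 0) (b := 0) (q := 0) (p := 1) (r := 200) (n := 5) (O := O50) (by decide +kernel) (lks := lk49) (by decide +kernel) (gens_of_lall2 (m := [[0]]) (by decide +kernel)) ix42 (by decide +kernel)
noncomputable def b54 : ℕ := (nat_lit 63)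
theorem cl55 : Clo.{u} io C39 [1,2] 6 m38 M51 (mkB [(0,b54)]) := cl53.ops (os := [Op.inv 0,Op.rel 0 [1] 0 [1,0,1] [([0],1)],Op.ext 0 2 [([2],[2],[([0],3)])],Op.rel 0 [1,2] 0 [2,1,0,2,1,0,2,1,0,2,1] [([0],7)],Op.ext 0 2 [([2],[2],[([0],3)])]]) (by decide +kernel) (by decide +kernel)
theorem sat57 : Sat io C39 (finG m38ok) := m38s0.fin (k := 3) (by decide +kernel)
theorem bd56 : Bound.{u} io C39 [0,1,2] 60 := cl55.bound (by decide +kernel) sat57 (bd36.of_imp imp41)
noncomputable def m58n0 : Net := (Net.cons (nat_lit 6) (nat_lit 32)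
  (Net.cons (nat_lit 3) (nat_lit 448)
  (Net.cons (nat_lit 1) (nat_lit 512)
  (Net.cons (nat_lit 1) (nat_lit 1152)
  (Net.cons (nat_lit 1) (nat_lit 72)
  (Net.cons (nat_lit 6) (nat_lit 32)
  Net.nil))))))
noncomputable def m58n1 : Net := (Net.cons (nat_lit 6) (nat_lit 32)
  (Net.cons (nat_lit 3) (nat_lit 68)
  (Net.cons (nat_lit 1) (nat_lit 520)
  (Net.cons (nat_lit 1) (nat_lit 1168)
  (Net.cons (nat_lit 1) (nat_lit 72)
  (Net.cons (nat_lit 3) (nat_lit 388)
  (Net.cons (nat_lit 6) (nat_lit 32)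
  Net.nil)))))))
noncomputable def m58n2 : Net := (Net.cons (nat_lit 6) (nat_lit 22)
  (Net.cons (nat_lit 3) (nat_lit 386)
  (Net.cons (nat_lit 1) (nat_lit 8)
  (Net.cons (nat_lit 1) (nat_lit 1042)
  (Net.cons (nat_lit 1) (nat_lit 72)
  (Net.cons (nat_lit 3) (nat_lit 386)
  (Net.cons (nat_lit 6) (nat_lit 22)
  Net.nil)))))))
noncomputable def m58n3 : Net := (Net.cons (nat_lit 6) (nat_lit 32)
  (Net.cons (nat_lit 3) (nat_lit 448)
  (Net.cons (nat_lit 1) (nat_lit 1152)
  (Net.cons (nat_lit 1) (nat_lit 1)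
  (Net.cons (nat_lit 6) (nat_lit 32)
  Net.nil)))))
noncomputable def m58l : List Net := [m58n0,m58n1,m58n2,m58n3]
noncomputable abbrev m58 : ℕ → Net := lk Net.nil m58l
theorem m58ok : NetsOk 11 m58 vT := netsOk_of (by decide +kernel)
theorem m58s0 : Sat io [] (finG m58ok) := fin_sat_nil _ (k := 4) (n := 5) (by decide +kernel)
noncomputable def C59 : List (List ℕ) := [r0,r1,r2,r4,r5,r7,r10,r11]
theorem cl60 : Clo.{u} io C59 [0,1,2] 11 m58 1 (mkB []) := Clo.start (by decide +kernel)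
theorem imp61 : Imp.{u} io C59 C39 := Imp.of_chk (pfs := [[([],1)],[([],3)],[([],7)],[([],13)]]) (by decide +kernel)
theorem der63 : Der 6 (finX 6) (cl (finG m38ok) [[0],[1]]) (fun _ => Net.nil) := Der.zero (finModel m38ok).inj
noncomputable def ns64 : ℕ → Net := upd (fun _ => Net.nil) 0 (m38 0)
theorem der65 : Der 6 (finX 6) (cl (finG m38ok) [[0],[1]]) ns64 := der63.add (wp_mem_cl (w := [0]) (by decide)) (rep_letter (finModel m38ok) 0) 0
noncomputable def ns66 : ℕ → Net := upd ns64 1 (m38 1)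
theorem der67 : Der 6 (finX 6) (cl (finG m38ok) [[0],[1]]) ns66 := der65.add (wp_mem_cl (w := [1]) (by decide)) (rep_letter (finModel m38ok) 1) 1
noncomputable def L68 : Lev := Lev.cons 1 2 [[1]] Lev.nil
noncomputable def L69 : Lev := Lev.cons 0 3 [[0]] L68
theorem lc70 : Lev.chk 6 0 ns66 vT 100 L69 = true := by decide +kernel
theorem lb71 : 6 ≤ Nat.card (cl (finG m38ok) [[0],[1]]) := le_of_eq_of_le (by decide +kernel) (der67.card_ge lc70)
theorem ix62 : Idx.{u} io C59 [0,1,2] [[0],[1]] 10 := (Idx.of bd56 sat57 (by decide +kernel) lb71 (by decide +kernel)).of_imp imp61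
noncomputable def lk72 : List (List ℕ × List ℕ × Pf) := [([0],[0],[([],5)]),([1],[1],[([],9)])]
noncomputable def O73 : ℕ := (nat_lit 2046)
noncomputable def M74 : ℕ := (nat_lit 2047)
noncomputable def b75 : ℕ := (nat_lit 1)
theorem cl76 : Clo.{u} io C59 [0,1,2] 11 m58 M74 (mkB [(3,b75)]) := cl60.new (k := 1) (b := 3) (q := 0) (p := 1) (r := 200) (n := 10) (O := O73) (by decide +kernel) (lks := lk72) (by decide +kernel) (gens_of_lall2 (m := [[0],[1]]) (by decide +kernel)) ix62 (by decide +kernel)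
noncomputable def b77 : ℕ := (nat_lit 2047)
theorem cl78 : Clo.{u} io C59 [0,1,2] 11 m58 M74 (mkB [(3,b77)]) := cl76.ops (os := [Op.inv 3,Op.rel 3 [2] 3 [2,3,2] [([],11)],Op.ext 3 3 [([0],[0],[([],5)]),([1],[1],[([],9)])],Op.rel 3 [1,2] 3 [2,1,3,2,1,3,2,1,3,2,1] [([],15)],Op.ext 3 3 [([0],[0],[([],5)]),([1],[1],[([],9)])]]) (by decide +kernel) (by decide +kernel)
theorem sat80 : Sat io C59 (finG m58ok) := m58s0.fin (k := 4) (by decide +kernel)
theorem bd79 : Bound.{u} io C59 [0,1,2,3] 660 := cl78.bound (by decide +kernel) sat80 (bd56.of_imp imp61)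
noncomputable def m81n0 : Net := (Net.cons (nat_lit 6) (nat_lit 48)
  (Net.cons (nat_lit 3) (nat_lit 256)
  (Net.cons (nat_lit 1) (nat_lit 512)
  (Net.cons (nat_lit 1) (nat_lit 1170)
  (Net.cons (nat_lit 1) (nat_lit 512)
  (Net.cons (nat_lit 3) (nat_lit 256)
  (Net.cons (nat_lit 6) (nat_lit 48)
  Net.nil)))))))
noncomputable def m81n1 : Net := (Net.cons (nat_lit 3) (nat_lit 6)
  (Net.cons (nat_lit 1) (nat_lit 72)
  (Net.cons (nat_lit 1) (nat_lit 1170)
  (Net.cons (nat_lit 1) (nat_lit 72)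
  (Net.cons (nat_lit 3) (nat_lit 6)
  Net.nil)))))
noncomputable def m81n2 : Net := (Net.cons (nat_lit 6) (nat_lit 60)
  (Net.cons (nat_lit 3) (nat_lit 258)
  (Net.cons (nat_lit 1) (nat_lit 8)
  (Net.cons (nat_lit 1) (nat_lit 146)
  (Net.cons (nat_lit 1) (nat_lit 520)
  (Net.cons (nat_lit 3) (nat_lit 258)
  (Net.cons (nat_lit 6) (nat_lit 60)
  Net.nil)))))))
noncomputable def m81n3 : Net := (Net.cons (nat_lit 6) (nat_lit 48)
  (Net.cons (nat_lit 3) (nat_lit 448)
  (Net.cons (nat_lit 1) (nat_lit 16)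
  (Net.cons (nat_lit 1) (nat_lit 576)
  (Net.cons (nat_lit 6) (nat_lit 48)
  Net.nil)))))
noncomputable def m81n4 : Net := (Net.cons (nat_lit 6) (nat_lit 40)
  (Net.cons (nat_lit 3) (nat_lit 384)
  (Net.cons (nat_lit 1) (nat_lit 8)
  (Net.cons (nat_lit 1) (nat_lit 16)
  (Net.cons (nat_lit 1) (nat_lit 9)
  (Net.cons (nat_lit 6) (nat_lit 40)
  Net.nil))))))
noncomputable def m81l : List Net := [m81n0,m81n1,m81n2,m81n3,m81n4]
noncomputable abbrev m81 : ℕ → Net := lk Net.nil m81l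
theorem m81ok : NetsOk 12 m81 vT := netsOk_of (by decide +kernel)
theorem m81s0 : Sat io [] (finG m81ok) := fin_sat_nil _ (k := 4) (n := 5) (by decide +kernel)
noncomputable def r12 : List ℕ := [4,1,4,3,1]
noncomputable def C82 : List (List ℕ) := [r0,r1,r2,r3,r4,r5,r6,r7,r8,r9,r10,r11,r12]
theorem cl83 : Clo.{u} io C82 [0,1,2,3] 12 m81 1 (mkB []) := Clo.start (by decide +kernel)
theorem imp84 : Imp.{u} io C82 C59 := Imp.of_chk (pfs := [[([],1)],[([],3)],[([],5)],[([],9)],[([],11)],[([],15)],[([],21)],[([],23)]]) (by decide +kernel)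
theorem der86 : Der 11 (finX 11) (cl (finG m58ok) [[2],[3],[3,1]]) (fun _ => Net.nil) := Der.zero (finModel m58ok).inj
noncomputable def ns87 : ℕ → Net := upd (fun _ => Net.nil) 0 (m58 2)
theorem der88 : Der 11 (finX 11) (cl (finG m58ok) [[2],[3],[3,1]]) ns87 := der86.add (wp_mem_cl (w := [2]) (by decide)) (rep_letter (finModel m58ok) 2) 0
noncomputable def ns89 : ℕ → Net := upd ns87 1 (m58 3)
theorem der90 : Der 11 (finX 11) (cl (finG m58ok) [[2],[3],[3,1]]) ns89 := der88.add (wp_mem_cl (w := [3]) (by decide)) (rep_letter (finModel m58ok) 3) 1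
noncomputable def x91 : Net := (Net.cons (nat_lit 3) (nat_lit 388)
  (Net.cons (nat_lit 1) (nat_lit 520)
  (Net.cons (nat_lit 1) (nat_lit 1040)
  (Net.cons (nat_lit 1) (nat_lit 585)
  (Net.cons (nat_lit 3) (nat_lit 388)
  Net.nil)))))
noncomputable def ns92 : ℕ → Net := upd ns89 2 x91
theorem der93 : Der 11 (finX 11) (cl (finG m58ok) [[2],[3],[3,1]]) ns92 := der90.add (wp_mem_cl (w := [3,1]) (by decide)) ((finModel m58ok).toIsPre.rep_word (k := 4) (w := [3,1]) (n := x91) (by decide +kernel)) 2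
noncomputable def L94 : Lev := Lev.cons 1 2 [[0]] Lev.nil
noncomputable def L95 : Lev := Lev.cons 0 5 [[2]] L94
noncomputable def L96 : Lev := Lev.cons 7 6 [[1]] L95
theorem lc97 : Lev.chk 11 1 ns92 vT 100 L96 = true := by decide +kernel
theorem lb98 : 60 ≤ Nat.card (cl (finG m58ok) [[2],[3],[3,1]]) := le_of_eq_of_le (by decide +kernel) (der93.card_ge lc97)
theorem ix85 : Idx.{u} io C82 [0,1,2,3] [[2],[3],[3,1]] 11 := (Idx.of bd79 sat80 (by decide +kernel) lb98 (by decide +kernel)).of_imp imp84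
noncomputable def lk99 : List (List ℕ × List ℕ × Pf) := [([2],[2],[([],17)]),([3],[3],[([],19)]),([3,1],[1],[([4,1,4],25)])]
noncomputable def O100 : ℕ := (nat_lit 4094)
noncomputable def M101 : ℕ := (nat_lit 4095)
noncomputable def b102 : ℕ := (nat_lit 1)
theorem cl103 : Clo.{u} io C82 [0,1,2,3] 12 m81 M101 (mkB [(4,b102)]) := cl83.new (k := 1) (b := 4) (q := 0) (p := 1) (r := 200) (n := 11) (O := O100) (by decide +kernel) (lks := lk99) (by decide +kernel) (gens_of_lall2 (m := [[0],[1],[2]]) (by decide +kernel)) ix85 (by decide +kernel)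
noncomputable def b104 : ℕ := (nat_lit 4095)
theorem cl105 : Clo.{u} io C82 [0,1,2,3] 12 m81 M101 (mkB [(4,b104)]) := cl103.ops (os := [Op.inv 4,Op.rel 4 [0] 4 [0,4,0] [([],7)],Op.ext 4 4 [([2],[2],[([],17)]),([3],[3],[([],19)]),([3,1],[1],[([4,1,4],25)]),([1],[1,3],[([4],25)]),([1],[3,1],[([4,3,1],24)])]]) (by decide +kernel) (by decide +kernel)
theorem sat107 : Sat io C82 (finG m81ok) := m81s0.fin (k := 4) (by decide +kernel)
theorem bd106 : Bound.{u} io C82 [0,1,2,3,4] 7920 := cl105.bound (by decide +kernel) sat107 (bd79.of_imp imp84)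
noncomputable def m108n0 : Net := (Net.cons (nat_lit 6) (nat_lit 22)
  (Net.cons (nat_lit 3) (nat_lit 192)
  (Net.cons (nat_lit 1) (nat_lit 2)
  (Net.cons (nat_lit 1) (nat_lit 584)
  (Net.cons (nat_lit 6) (nat_lit 22)
  Net.nil)))))
noncomputable def m108n1 : Net := (Net.cons (nat_lit 6) (nat_lit 32)
  (Net.cons (nat_lit 3) (nat_lit 128)
  (Net.cons (nat_lit 1) (nat_lit 576)
  (Net.cons (nat_lit 1) (nat_lit 1152)
  (Net.cons (nat_lit 1) (nat_lit 584)
  (Net.cons (nat_lit 6) (nat_lit 32)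
  Net.nil))))))
noncomputable def m108n2 : Net := (Net.cons (nat_lit 6) (nat_lit 24)
  (Net.cons (nat_lit 3) (nat_lit 6)
  (Net.cons (nat_lit 1) (nat_lit 128)
  (Net.cons (nat_lit 6) (nat_lit 16)
  Net.nil))))
noncomputable def m108n3 : Net := (Net.cons (nat_lit 3) (nat_lit 384)
  (Net.cons (nat_lit 1) (nat_lit 1)
  (Net.cons (nat_lit 1) (nat_lit 1026)
  (Net.cons (nat_lit 1) (nat_lit 73)
  (Net.cons (nat_lit 3) (nat_lit 384)
  Net.nil)))))
noncomputable def m108n4 : Net := (Net.cons (nat_lit 6) (nat_lit 32)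
  (Net.cons (nat_lit 3) (nat_lit 6)
  (Net.cons (nat_lit 1) (nat_lit 520)
  (Net.cons (nat_lit 1) (nat_lit 1168)
  (Net.cons (nat_lit 1) (nat_lit 521)
  (Net.cons (nat_lit 3) (nat_lit 6)
  (Net.cons (nat_lit 6) (nat_lit 32)
  Net.nil)))))))
noncomputable def m108l : List Net := [m108n0,m108n1,m108n2,m108n3,m108n4]
noncomputable abbrev m108 : ℕ → Net := lk Net.nil m108l
theorem m108ok : NetsOk 11 m108 vT := netsOk_of (by decide +kernel)
theorem m108s0 : Sat io [] (finG m108ok) := fin_sat_nil _ (k := 4) (n := 5) (by decide +kernel)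
abbrev GM : Type := ↥(cl (finG m108ok) (lw [0,1,2,3,4]))
theorem allM : ∀ l, finG m108ok l ∈ (cl (finG m108ok) (lw [0,1,2,3,4])) := finG_mem_all _ (by decide +kernel)
noncomputable def gM : ℕ → GM := subA _ _ allM
theorem sat109 : Sat io C82 (finG m108ok) := m108s0.fin (k := 4) (by decide +kernel)
noncomputable abbrev RM : List (List ℕ) := C82
theorem satM : Sat io RM gM := sat109.subA _
theorem topM : cl gM (lw [0,1,2,3,4]) = ⊤ := cl_subA _
theorem modelM : IsModel 11 (finX 11) gM m108 vT := (finModel m108ok).subA _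
theorem faithM : Faith GM 11 (finX 11) := (faith_fin 11).sub _
theorem der110 : Der 11 (finX 11) (cl (finG m108ok) (lw [0,1,2,3,4])) (resN m108 [0,1,2,3,4]) := Der.letters (finModel m108ok) _
noncomputable def x111 : Net := (Net.cons (nat_lit 6) (nat_lit 30)
  (Net.cons (nat_lit 3) (nat_lit 258)
  (Net.cons (nat_lit 1) (nat_lit 520)
  (Net.cons (nat_lit 1) (nat_lit 1042)
  (Net.cons (nat_lit 1) (nat_lit 520)
  (Net.cons (nat_lit 3) (nat_lit 256)
  (Net.cons (nat_lit 6) (nat_lit 20)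
  Net.nil)))))))
noncomputable def x111s : ℕ → Net := upd (resN m108 [0,1,2,3,4]) 5 x111
theorem der112 : Der 11 (finX 11) (cl (finG m108ok) (lw [0,1,2,3,4])) x111s := der110.ext (k := 4) (w := [3,2,4,1,2,3]) 5 (by decide +kernel)
noncomputable def x113 : Net := (Net.cons (nat_lit 6) (nat_lit 16)
  (Net.cons (nat_lit 3) (nat_lit 450)
  (Net.cons (nat_lit 1) (nat_lit 512)
  (Net.cons (nat_lit 1) (nat_lit 1040)
  (Net.cons (nat_lit 3) (nat_lit 384)
  Net.nil)))))
noncomputable def x113s : ℕ → Net := upd x111s 6 x113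
theorem der114 : Der 11 (finX 11) (cl (finG m108ok) (lw [0,1,2,3,4])) x113s := der112.ext (k := 4) (w := [2,5,0,5,2,1,0,5]) 6 (by decide +kernel)
noncomputable def x115 : Net := (Net.cons (nat_lit 3) (nat_lit 384)
  (Net.cons (nat_lit 1) (nat_lit 8)
  (Net.cons (nat_lit 1) (nat_lit 1040)
  (Net.cons (nat_lit 1) (nat_lit 64)
  (Net.cons (nat_lit 3) (nat_lit 256)
  (Net.cons (nat_lit 6) (nat_lit 8)
  Net.nil))))))
noncomputable def x115s : ℕ → Net := upd x113s 7 x115
theorem der116 : Der 11 (finX 11) (cl (finG m108ok) (lw [0,1,2,3,4])) x115s := der114.ext (k := 4) (w := [5,1,2]) 7 (by decide +kernel)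
noncomputable def x117 : Net := (Net.cons (nat_lit 6) (nat_lit 34)
  (Net.cons (nat_lit 3) (nat_lit 322)
  (Net.cons (nat_lit 1) (nat_lit 512)
  (Net.cons (nat_lit 1) (nat_lit 1024)
  (Net.cons (nat_lit 1) (nat_lit 520)
  (Net.cons (nat_lit 6) (nat_lit 50)
  Net.nil))))))
noncomputable def x117s : ℕ → Net := upd x115s 8 x117
theorem der118 : Der 11 (finX 11) (cl (finG m108ok) (lw [0,1,2,3,4])) x117s := der116.ext (k := 4) (w := [0,7,0,6]) 8 (by decide +kernel)
noncomputable def L119 : Lev := Lev.cons 3 8 [[1],[7],[8]] Lev.nil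
noncomputable def L120 : Lev := Lev.cons 1 9 [[0],[6]] L119
noncomputable def L121 : Lev := Lev.cons 2 10 [[2],[5]] L120
noncomputable def L122 : Lev := Lev.cons 0 11 [[3],[4]] L121
theorem lc123 : Lev.chk 11 1 x117s vT 100 L122 = true := by decide +kernel
theorem bdM : Bound.{u} io RM [0,1,2,3,4] 7920 := bd106
theorem cardM : Nat.card GM = 7920 := le_antisymm (bdM.{0}.fin sat109) (le_of_eq_of_le (by decide +kernel) (der118.card_ge lc123))
noncomputable def baseM : List ℕ := [0,2,1,3]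
theorem basedM : Based 11 (finX 11) (⊤ : Subgroup GM) baseM := (der118.based lc123 (le_of_eq_of_le cardM (by decide +kernel))).sub
noncomputable def eqvM : List ℕ → List ℕ → Bool := eqBc m108 baseM
theorem heqM : ∀ u w, eqvM u w = true → wp gM u = wp gM w := basedM.eqv modelM.toIsPre
theorem s0M : Sat io [] gM := satM.nil
noncomputable def cvM : List (List ℕ) := [[0,2,1,4],[4,0,2,1,4,4]]
theorem der124 : Der 11 (finX 11) (cl gM cvM) (fun _ => Net.nil) := Der.zero modelM.inj
noncomputable def x125 : Net := (Net.cons (nat_lit 6) (nat_lit 8)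
  (Net.cons (nat_lit 1) (nat_lit 72)
  (Net.cons (nat_lit 1) (nat_lit 144)
  (Net.cons (nat_lit 1) (nat_lit 585)
  (Net.cons (nat_lit 3) (nat_lit 134)
  (Net.cons (nat_lit 6) (nat_lit 6)
  Net.nil))))))
noncomputable def ns126 : ℕ → Net := upd (fun _ => Net.nil) 0 x125
theorem der127 : Der 11 (finX 11) (cl gM cvM) ns126 := der124.add (wp_mem_cl (w := [0,2,1,4]) (by decide)) (modelM.toIsPre.rep_word (k := 4) (w := [0,2,1,4]) (n := x125) (by decide +kernel)) 0
noncomputable def x128 : Net := (Net.cons (nat_lit 6) (nat_lit 41)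
  (Net.cons (nat_lit 3) (nat_lit 259)
  (Net.cons (nat_lit 1) (nat_lit 65)
  (Net.cons (nat_lit 1) (nat_lit 1154)
  (Net.cons (nat_lit 6) (nat_lit 32)
  Net.nil)))))
noncomputable def ns129 : ℕ → Net := upd ns126 1 x128
theorem der130 : Der 11 (finX 11) (cl gM cvM) ns129 := der127.add (wp_mem_cl (w := [4,0,2,1,4,4]) (by decide)) (modelM.toIsPre.rep_word (k := 4) (w := [4,0,2,1,4,4]) (n := x128) (by decide +kernel)) 1
noncomputable def x131 : Net := (Net.cons (nat_lit 6) (nat_lit 18)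
  (Net.cons (nat_lit 3) (nat_lit 386)
  (Net.cons (nat_lit 1) (nat_lit 1042)
  (Net.cons (nat_lit 1) (nat_lit 584)
  (Net.cons (nat_lit 3) (nat_lit 256)
  (Net.cons (nat_lit 6) (nat_lit 10)
  Net.nil))))))
noncomputable def x131s : ℕ → Net := upd ns129 2 x131
theorem der132 : Der 11 (finX 11) (cl gM cvM) x131s := der130.ext (k := 4) (w := [0,1]) 2 (by decide +kernel)
noncomputable def x133 : Net := (Net.cons (nat_lit 6) (nat_lit 42)
  (Net.cons (nat_lit 3) (nat_lit 322)
  (Net.cons (nat_lit 1) (nat_lit 64)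
  (Net.cons (nat_lit 1) (nat_lit 130)
  (Net.cons (nat_lit 6) (nat_lit 44)
  Net.nil)))))
noncomputable def x133s : ℕ → Net := upd x131s 3 x133
theorem der134 : Der 11 (finX 11) (cl gM cvM) x133s := der132.ext (k := 4) (w := [1,1,0,1,1,0]) 3 (by decide +kernel)
noncomputable def x135 : Net := (Net.cons (nat_lit 6) (nat_lit 44)
  (Net.cons (nat_lit 3) (nat_lit 128)
  (Net.cons (nat_lit 1) (nat_lit 576)
  (Net.cons (nat_lit 1) (nat_lit 1154)
  (Net.cons (nat_lit 1) (nat_lit 64)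
  (Net.cons (nat_lit 3) (nat_lit 128)
  (Net.cons (nat_lit 6) (nat_lit 32)
  Net.nil)))))))
noncomputable def x135s : ℕ → Net := upd x133s 4 x135
theorem der136 : Der 11 (finX 11) (cl gM cvM) x135s := der134.ext (k := 4) (w := [2,3,2,3,2,2]) 4 (by decide +kernel)
noncomputable def x137 : Net := (Net.cons (nat_lit 6) (nat_lit 44)
  (Net.cons (nat_lit 3) (nat_lit 324)
  (Net.cons (nat_lit 1) (nat_lit 8)
  (Net.cons (nat_lit 1) (nat_lit 16)
  (Net.cons (nat_lit 1) (nat_lit 72)
  (Net.cons (nat_lit 3) (nat_lit 4)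
  (Net.cons (nat_lit 6) (nat_lit 42)
  Net.nil)))))))
noncomputable def x137s : ℕ → Net := upd x135s 5 x137
theorem der138 : Der 11 (finX 11) (cl gM cvM) x137s := der136.ext (k := 4) (w := [3,3,4,3]) 5 (by decide +kernel)
noncomputable def L139 : Lev := Lev.cons 1 8 [[4],[5]] Lev.nil
noncomputable def L140 : Lev := Lev.cons 4 9 [[3]] L139
noncomputable def L141 : Lev := Lev.cons 10 10 [[2]] L140
noncomputable def L142 : Lev := Lev.cons 0 11 [[0],[1]] L141
theorem lc143 : Lev.chk 11 1 x137s vT 100 L142 = true := by decide +kernel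
theorem lb144 : 7920 ≤ Nat.card (cl gM cvM) := le_of_eq_of_le (by decide +kernel) (der138.card_ge lc143)
theorem simpleM : IsSimpleGroup GM := modelM.simple faithM topM (ws := [[4,2,4],[3,1,3],[3,4,0,4,0,4,3]]) (r := 100) (p0 := 0) (l := [(4,[4])]) (by decide +kernel) (p := 11) (by norm_num) cardM (by norm_num) (pow_one_of heqM (a := [0,2,1,4]) (by decide +kernel)) (ncl_top s0M (cs := [[],[4]]) (by decide +kernel) cardM lb144)

end Cfsg.Agent.H6.MN
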