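/-
Primitive prime divisors: the theorems of Zsigmondy and Hering.
-/
import Mathlib

namespace Cfsg.Agent.GS

open Polynomial Nat

/-- The value of the cyclotomic polynomial. -/
noncomputable def cyv (n q : ℕ) : ℕ := ((cyclotomic n ℤ).eval (q : ℤ)).natAbs

theorem dvd_cyc_iff {p q f : ℕ} (hp : p.Prime) (hpq : ¬ p ∣ q) :
    (p : ℤ) ∣ (cyclotomic f ℤ).eval (q : ℤ) ↔ ∃ j : ℕ, f = orderOf (q : ZMod p) * p ^ j := by
  haveI := Fact.mk hp
  have h0 : (q : ZMod p) ≠ 0 := fun e => hpq ((ZMod.natCast_eq_zero_iff q p).1 e)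
  have h1 := ZMod.orderOf_dvd_card_sub_one h0
  have h2 : 0 < p - 1 := Nat.sub_pos_of_lt hp.one_lt
  have h3 := Nat.pos_of_dvd_of_pos h1 h2
  have key : ∀ k m, ¬ p ∣ m → ((p : ℤ) ∣ (cyclotomic (p ^ k * m) ℤ).eval (q : ℤ) ↔ m = orderOf (q : ZMod p)) := fun k m hm => by
    haveI : NeZero (m : ZMod p) := ⟨fun e => hm ((ZMod.natCast_eq_zero_iff m p).1 e)⟩
    rw [← IsPrimitiveRoot.iff_orderOf.trans eq_comm, ← isRoot_cyclotomic_prime_pow_mul_iff_of_charP (p := p) (k := k),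
      ← ZMod.intCast_zmod_eq_zero_iff_dvd, ← map_cyclotomic_int _ (ZMod p), IsRoot.def, eval_map, ← Int.cast_natCast (R := ZMod p) q, eval₂_at_intCast]
    rfl
  rcases f.eq_zero_or_pos with rfl | hf
  · simp only [cyclotomic_zero, eval_one, Int.natCast_dvd_ofNat, Nat.dvd_one, hp.ne_one, false_iff, not_exists]
    exact fun j => (Nat.mul_pos h3 (pow_pos hp.pos j)).ne
  refine ⟨fun h => ?_, ?_⟩
  · obtain ⟨k, m, hm, rfl⟩ := Nat.exists_eq_pow_mul_and_not_dvd hf.ne' p hp.ne_one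
    exact ⟨k, by rw [← (key k m hm).1 h, mul_comm]⟩
  · rintro ⟨j, rfl⟩
    rw [mul_comm]
    exact (key j _ fun e => absurd (Nat.le_of_dvd h2 (e.trans h1)) (by omega)).2 rfl

variable {n q r d : ℕ}

theorem coe_cyv (hq : 1 < q) : (cyv n q : ℤ) = (cyclotomic n ℤ).eval (q : ℤ) :=
  Int.natAbs_of_nonneg (cyclotomic_nonneg n (by omega))

theorem cyv_pos (hq : 1 < q) : 0 < cyv n q := by
  have := cyclotomic_pos' n (x := (q : ℤ)) (by omega)
  rw [← coe_cyv hq] at this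
  omega

theorem cyv_mul_dvd (hq : 1 < q) (h : d ∣ n) (h' : d < n) : (q ^ d - 1) * cyv n q ∣ q ^ n - 1 := by
  have := map_dvd (evalRingHom (q : ℤ)) (X_pow_sub_one_mul_cyclotomic_dvd_X_pow_sub_one_of_dvd ℤ (Nat.mem_properDivisors.2 ⟨h, h'⟩))
  rw [← Int.natCast_dvd_natCast, Nat.cast_mul, Nat.cast_pred (by positivity), Nat.cast_pred (by positivity), coe_cyv hq]
  simpa using this

theorem cyv_prime (hq : 1 < q) (hn : 1 < n) (hr : r.Prime) (h : r ∣ cyv n q) : ¬ r ∣ q ∧ ∃ j, n = orderOf (q : ZMod r) * r ^ j := by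
  have h1 : ¬ r ∣ q := fun e => hr.ne_one (Nat.dvd_one.1 ((Nat.dvd_sub_iff_right (Nat.one_le_pow _ _ (by omega))
    (e.trans (dvd_pow_self q (by omega : n ≠ 0)))).1 ((h.mul_left _).trans (cyv_mul_dvd hq (one_dvd n) hn))))
  exact ⟨h1, (dvd_cyc_iff hr h1).1 (coe_cyv hq ▸ Int.natCast_dvd_natCast.2 h)⟩

theorem dvd_pow_sub_one_iff (hq : 0 < q) {k : ℕ} : r ∣ q ^ k - 1 ↔ orderOf (q : ZMod r) ∣ k := by
  rw [orderOf_dvd_iff_pow_eq_one, ← Nat.modEq_iff_dvd' (Nat.one_le_pow _ _ hq), ← ZMod.natCast_eq_natCast_iff, eq_comm]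
  simp

theorem not_sq_dvd_cyv (hq : 1 < q) (hn : 2 < n) (hr : r.Prime) (hrn : r ∣ n) : ¬ r ^ 2 ∣ cyv n q := fun h => by
  obtain ⟨h1, j, hj⟩ := cyv_prime hq (by omega) hr ((dvd_pow_self r two_ne_zero).trans h)
  haveI := Fact.mk hr
  have h2 := ZMod.orderOf_dvd_card_sub_one fun e => h1 ((ZMod.natCast_eq_zero_iff q r).1 e)
  have h0 := hr.two_le
  rcases j with _ | j
  · rw [pow_zero, mul_one] at hj
    exact absurd (Nat.le_of_dvd (by omega) (hrn.trans (hj ▸ h2))) (by omega)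
  obtain ⟨d, rfl⟩ := hrn
  have hd : d = orderOf (q : ZMod r) * r ^ j := Nat.eq_of_mul_eq_mul_left hr.pos (by rw [hj]; ring)
  have d0 : 0 < d := Nat.pos_of_ne_zero (by rintro rfl; omega)
  have h3 := (Nat.mul_dvd_mul_left _ h).trans (cyv_mul_dvd hq (dvd_mul_left d r) (by nlinarith))
  have h4 : r ∣ q ^ d - 1 := (dvd_pow_sub_one_iff (by omega)).2 ⟨_, hd⟩
  have h5 : ¬ r ∣ q ^ d := fun e => h1 (hr.dvd_of_dvd_pow e)
  have h6 : 1 < q ^ d := Nat.one_lt_pow d0.ne' hq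
  have h7 : padicValNat r ((q ^ d) ^ r - 1) = padicValNat r (q ^ d - 1) + 1 := by
    rcases hr.eq_two_or_odd' with rfl | ho
    · have h8 := padicValNat.pow_two_sub_one h6 h5 two_ne_zero even_two
      have h9 : padicValNat 2 (q ^ d + 1) = 1 := by
        obtain ⟨e, rfl⟩ : 2 ∣ d := by
          rw [Nat.dvd_one.1 h2, one_mul] at hd
          rw [hd]
          refine dvd_pow_self 2 ?_
          rintro rfl
          omega
        have : (q ^ e) ^ 2 % 4 = 1 := by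
          have := Nat.odd_iff.2 (show q ^ e % 2 = 1 from by_contra fun a => h1 (Nat.prime_two.dvd_of_dvd_pow (n := e) (by omega)))
          obtain ⟨c, hc⟩ := this
          rw [hc, show (2 * c + 1) ^ 2 = 1 + 4 * (c * c + c) by ring, Nat.add_mul_mod_self_left]
        rw [← pow_mul, mul_comm] at this
        refine le_antisymm (not_lt.1 fun a => ?_) ((padicValNat_dvd_iff_le (by omega)).1 (by omega))
        have := (padicValNat_dvd_iff_le (n := 2) (by omega)).2 a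
        omega
      simp only [padicValNat_self] at h8
      omega
    · simpa using padicValNat.pow_sub_pow ho h6 h4 h5 hr.ne_zero
  have h8 : (q ^ d) ^ r - 1 ≠ 0 := Nat.sub_ne_zero_of_lt (Nat.one_lt_pow hr.ne_zero h6)
  rw [mul_comm r d, pow_mul] at h3
  have := (padicValNat_dvd_iff_le h8).1 ((Nat.mul_dvd_mul_right pow_padicValNat_dvd _).trans h3 |> (pow_add r _ _ ▸ ·))
  omega

/-- The primitive part. -/
theorem exists_prim (hq : 1 < q) (hn : 2 < n) : ∃ m s, cyv n q = s * m ∧ (s = 1 ∨ s.Prime ∧ s ∣ n) ∧ m ∣ q ^ n - 1 ∧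
    ∀ r : ℕ, r.Prime → r ∣ m → orderOf (q : ZMod r) = n ∧ n ∣ r - 1 := by
  have h0 : cyv n q ∣ q ^ n - 1 := (dvd_mul_left _ _).trans (cyv_mul_dvd hq (one_dvd n) (by omega))
  have key : ∀ r : ℕ, r.Prime → r ∣ cyv n q → orderOf (q : ZMod r) ∣ r - 1 ∧ (¬ r ∣ n → orderOf (q : ZMod r) = n ∧ n ∣ r - 1) ∧
      ∀ s : ℕ, s.Prime → s ∣ n → s ≤ r := fun r hr h => by
    obtain ⟨h1, j, hj⟩ := cyv_prime hq (by omega) hr h
    haveI := Fact.mk hr
    have h2 := ZMod.orderOf_dvd_card_sub_one fun e => h1 ((ZMod.natCast_eq_zero_iff q r).1 e)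
    refine ⟨h2, fun a => ?_, fun s hs a => ?_⟩
    · rcases j with _ | j
      · rw [pow_zero, mul_one] at hj
        exact ⟨hj.symm, hj ▸ h2⟩
      · exact absurd (hj ▸ (dvd_pow_self r j.succ_ne_zero).mul_left _) a
    · rcases (Nat.Prime.dvd_mul hs).1 (hj ▸ a) with b | b
      · exact (Nat.le_of_dvd (Nat.sub_pos_of_lt hr.one_lt) (b.trans h2)).trans (Nat.sub_le _ _)
      · exact Nat.le_of_dvd hr.pos (hs.dvd_of_dvd_pow b)
  by_cases h : ∃ s : ℕ, s.Prime ∧ s ∣ n ∧ s ∣ cyv n q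
  · obtain ⟨s, hs, a, m, b⟩ := h
    have c : m ∣ cyv n q := ⟨s, by rw [b, mul_comm]⟩
    refine ⟨m, s, b, Or.inr ⟨hs, a⟩, c.trans h0, fun r hr e => (key r hr (e.trans c)).2.1 fun f => ?_⟩
    obtain rfl := le_antisymm ((key r hr (e.trans c)).2.2 s hs a) ((key s hs ⟨m, b⟩).2.2 r hr f)
    exact not_sq_dvd_cyv hq hn hs a (by rw [b, pow_two]; exact Nat.mul_dvd_mul_left _ e)
  · exact ⟨_, 1, (one_mul _).symm, Or.inl rfl, h0, fun r hr e => (key r hr e).2.1 fun f => h ⟨r, hr, f, e⟩⟩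

theorem le_totient_sq (n : ℕ) : n ≤ 2 * φ n ^ 2 ∧ (Odd n → n ≤ φ n ^ 2) := by
  induction n using Nat.recOnPosPrimePosCoprime with
  | prime_pow p k hp hk =>
    obtain ⟨k, rfl⟩ : ∃ j, k = j + 1 := ⟨k - 1, by omega⟩
    obtain ⟨p, rfl⟩ : ∃ j, p = j + 2 := ⟨p - 2, by have := hp.two_le; omega⟩
    rw [totient_prime_pow_succ hp, pow_succ, Nat.odd_mul]
    have : 1 ≤ (p + 2) ^ k := Nat.one_le_pow _ _ (by omega)
    generalize (p + 2) ^ k = y at *
    have h : y ≤ y ^ 2 := by nlinarith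
    rw [show p + 2 - 1 = p + 1 from rfl, mul_pow]
    refine ⟨(Nat.mul_le_mul h (show p + 2 ≤ 2 * (p + 1) ^ 2 by nlinarith)).trans (by rw [mul_left_comm]), fun ⟨_, h2⟩ => Nat.mul_le_mul h ?_⟩
    have := Nat.odd_iff.1 h2
    nlinarith [show 1 ≤ p by omega]
  | zero => simp
  | one => simp
  | coprime a b _ _ h ha hb =>
    rw [totient_mul h, mul_pow, Nat.odd_mul]
    refine ⟨?_, fun e => Nat.mul_le_mul (ha.2 e.1) (hb.2 e.2)⟩
    rcases Nat.even_or_odd a with e | e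
    · exact (Nat.mul_le_mul ha.1 (hb.2 (Nat.coprime_two_left.1 (h.coprime_dvd_left e.two_dvd)))).trans (by rw [mul_assoc])
    · exact (Nat.mul_le_mul (ha.2 e) hb.1).trans (by rw [mul_left_comm])

theorem le_cyv (hq : 1 < q) (hr : r.Prime) (hd : 0 < d) (h2 : r = 2 → 2 ∣ d) :
    (q ^ max 1 (r - 2) * (q - 1)) ^ φ d ≤ cyv (d * r) q := by
  have q1 : (1 : ℝ) < q := by exact_mod_cast hq
  have h0 : ∀ n, (cyv n q : ℝ) = (cyclotomic n ℝ).eval (q : ℝ) := fun n => by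
    rw [← map_cyclotomic_int n ℝ, ← Int.cast_natCast (R := ℝ) q, eval_intCast_map, Int.cast_id, ← coe_cyv hq]; simp
  have h1 := sub_one_pow_totient_le_cyclotomic_eval (one_lt_pow₀ q1 hr.ne_zero) d
  rw [← expand_eval] at h1
  rw [← Nat.cast_le (α := ℝ), h0, Nat.cast_pow, Nat.cast_mul, Nat.cast_pred (by omega), Nat.cast_pow]
  obtain ⟨s, rfl⟩ : ∃ j, r = j + 2 := ⟨r - 2, by have := hr.two_le; omega⟩
  have h3 : (1 : ℝ) ≤ q ^ s := one_le_pow₀ q1.le
  by_cases h : s + 2 ∣ d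
  · rw [cyclotomic_expand_eq_cyclotomic hr h] at h1
    refine le_trans (pow_le_pow_left₀ (mul_nonneg (by positivity) (by linarith)) ?_ _) h1
    refine (mul_le_mul_of_nonneg_right (pow_le_pow_right₀ q1.le (show _ ≤ s + 1 by omega)) (by linarith)).trans ?_
    rw [pow_succ, pow_succ, pow_succ]
    nlinarith
  rw [cyclotomic_expand_eq_cyclotomic_mul hr h, eval_mul] at h1
  have h4 := cyclotomic_eval_le_add_one_pow_totient q1 d
  refine le_of_mul_le_mul_right (le_trans ?_ (h1.trans (mul_le_mul_of_nonneg_left h4 (cyclotomic_nonneg _ q1.le)))) (by positivity)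
  rw [← mul_pow, max_eq_right (by rcases s with _ | s; exacts [absurd (h2 rfl) h, by omega]), Nat.add_sub_cancel]
  refine pow_le_pow_left₀ (mul_nonneg (mul_nonneg (by positivity) (by linarith)) (by positivity)) ?_ _
  rw [pow_succ, pow_succ]
  nlinarith

theorem small_of_cyv (hq : 1 < q) (hn : 2 < n) {s : ℕ} (hs : s = 1 ∨ s.Prime ∧ s ∣ n) (h : cyv n q ≤ s * (2 * n + 1)) :
    ∃ u, 0 < u ∧ q ^ u * (q - 1) ≤ 45 * u ^ 2 ∧ n ≤ 6 * u ^ 2 ∧ ∀ r : ℕ, r.Prime → r ∣ n → r ≤ u + 2 := by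
  obtain ⟨r, hr, hm⟩ := n.primeFactors.exists_max_image id (Nat.nonempty_primeFactors.2 (by omega))
  have h1 := Nat.prime_of_mem_primeFactors hr
  have h2 := h1.two_le
  have h3 : s ≤ r := hs.elim (by omega) fun e => hm s (Nat.mem_primeFactors.2 ⟨e.1, e.2, by omega⟩)
  obtain ⟨d, rfl⟩ := Nat.dvd_of_mem_primeFactors hr
  have d0 : 0 < d := Nat.pos_of_ne_zero (by rintro rfl; omega)
  have h4 := le_cyv hq h1 d0 (by
    rintro rfl
    have a := Nat.minFac_prime (show d ≠ 1 by omega)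
    have := hm _ (Nat.mem_primeFactors.2 ⟨a, (Nat.minFac_dvd d).mul_left 2, by omega⟩)
    exact (le_antisymm this a.two_le : d.minFac = 2) ▸ Nat.minFac_dvd d)
  have h5 := (le_totient_sq d).1
  have h6 := Nat.totient_pos.2 d0
  generalize φ d = t at *
  have h7 : r ≤ 3 * max 1 (r - 2) := by omega
  have h8 : 1 ≤ max 1 (r - 2) := le_max_left _ _
  have h9 : r ≤ max 1 (r - 2) + 2 := by omega
  generalize max 1 (r - 2) = v at *
  refine ⟨v * t, by positivity, ?_, ?_, fun s a b => (hm s (Nat.mem_primeFactors.2 ⟨a, b, by omega⟩)).trans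
    (h9.trans (Nat.add_le_add_right (Nat.le_mul_of_pos_right v h6) 2))⟩
  · rw [mul_pow, ← pow_mul, mul_comm d] at h4
    refine ((Nat.mul_le_mul_left _ (Nat.le_self_pow h6.ne' _)).trans (h4.trans h)).trans ?_
    calc _ ≤ r * (5 * r * t ^ 2) := Nat.mul_le_mul h3 (by nlinarith [Nat.one_le_pow 2 t h6])
      _ = 5 * (r * t) ^ 2 := by ring
      _ ≤ 5 * (3 * v * t) ^ 2 := by gcongr
      _ = _ := by ring
  · calc _ ≤ 3 * v * (2 * t ^ 2) := Nat.mul_le_mul h7 h5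
      _ = 6 * (v * 1 * t ^ 2) := by ring
      _ ≤ 6 * (v * v * t ^ 2) := by gcongr
      _ = _ := by ring

theorem lt_pow_aux {a b c : ℕ} (ha : 2 ≤ a) (hc : 3 ≤ c) (h : 45 * c ^ 2 < a ^ c * b) {u : ℕ} (hu : c ≤ u) : 45 * u ^ 2 < a ^ u * b := by
  induction u, hu using Nat.le_induction with
  | base => exact h
  | succ u hu ih => rw [pow_succ a]; nlinarith

/-- A computable candidate for the primitive part. -/
def ppAux (q n : ℕ) : List ℕ → ℕ
  | [] => q ^ n - 1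
  | s :: l => bif n % s == 0 then (fun m => m / m.gcd ((q ^ (n / s) - 1) ^ 4)) (ppAux q n l) else ppAux q n l

/-- The check. -/
def ppChk (q n m : ℕ) : List ℕ → Bool
  | [] => (q ^ n - 1) % m == 0 && Nat.ble (3 * n + 1) m
  | s :: l => (!(n % s == 0) || m.gcd (q ^ (n / s) - 1) == 1) && ppChk q n m l

theorem ppChk_spec {q n m : ℕ} {l : List ℕ} (h : ppChk q n m l = true) : (m ∣ q ^ n - 1 ∧ 3 * n + 1 ≤ m) ∧
    ∀ s ∈ l, s ∣ n → m.Coprime (q ^ (n / s) - 1) := by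
  induction l with
  | nil => exact ⟨by simpa [ppChk, Nat.dvd_iff_mod_eq_zero] using h, by simp⟩
  | cons s l ih =>
    simp only [ppChk, Bool.and_eq_true, Bool.or_eq_true, Bool.not_eq_true', beq_eq_false_iff_ne, beq_iff_eq] at h
    refine ⟨(ih h.2).1, fun d b c => ?_⟩
    rcases List.mem_cons.1 b with rfl | b
    · exact h.1.resolve_left fun e => e (Nat.mod_eq_zero_of_dvd c)
    · exact (ih h.2).2 d b c

/-- The exceptional pairs. -/
abbrev herL : List (ℕ × ℕ) := [(2, 6), (2, 4), (2, 10), (2, 12), (2, 18), (3, 4), (3, 6), (5, 6), (2, 3), (2, 8), (2, 20), (4, 3), (4, 6)]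

/-- The small primes. -/
abbrev smP : List ℕ := [2, 3, 5, 7, 11, 13]

theorem pp_two : ∀ n < 865, 2 < n → (2, n) ∉ herL → ppChk 2 n (ppAux 2 n smP) smP = true := by decide +kernel

theorem pp_small : ∀ q < 8, 2 < q → ∀ n < 217, 2 < n → (q, n) ∉ herL → ppChk q n (ppAux q n smP) smP = true := by
  intro q h1 h2
  interval_cases q <;> decide +kernel

theorem hering (hq : 1 < q) (hn : 2 < n) (h : (q, n) ∉ herL) :
    ∃ m : ℕ, m ∣ q ^ n - 1 ∧ (∀ i : ℕ, 1 ≤ i → i < n → m.Coprime (q ^ i - 1)) ∧ 3 * n + 1 ≤ m := by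
  obtain ⟨m, s, h1, h2, h3, h4⟩ := exists_prim hq hn
  by_cases h5 : 3 * n + 1 ≤ m
  · refine ⟨m, h3, fun i a b => Nat.coprime_of_dvd fun r hr c d => ?_, h5⟩
    exact absurd (Nat.le_of_dvd a ((h4 r hr c).1 ▸ (dvd_pow_sub_one_iff (by omega)).1 d)) (by omega)
  have m0 : m ≠ 0 := by rintro rfl; exact (cyv_pos hq).ne' h1
  have h6 : m ≡ 1 [MOD n] := by
    clear h1 h3 h5
    induction m using induction_on_primes with
    | zero => exact absurd rfl m0
    | one => rfl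
    | prime_mul r m hr ih =>
      exact ((Nat.modEq_iff_dvd' hr.pos).2 (h4 r hr (dvd_mul_right _ _)).2).symm.mul
        (ih (fun s hs e => h4 s hs (e.mul_left r)) (right_ne_zero_of_mul m0))
  obtain ⟨c, hc⟩ := (Nat.modEq_iff_dvd' (Nat.pos_of_ne_zero m0)).1 h6.symm
  have h7 : c ≤ 2 := by by_contra; nlinarith [Nat.sub_add_cancel (Nat.pos_of_ne_zero m0)]
  obtain ⟨u, u0, u1, u2, u3⟩ := small_of_cyv hq hn h2 (h1 ▸ Nat.mul_le_mul_left _ (by nlinarith [Nat.sub_add_cancel (Nat.pos_of_ne_zero m0)]))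
  have a : ∀ b, b + 1 ≤ q → (b + 1) ^ u * b ≤ 45 * u ^ 2 := fun b e =>
    (Nat.mul_le_mul (Nat.pow_le_pow_left e u) (by omega)).trans u1
  have u4 : u < 13 := not_le.1 fun e => absurd (lt_pow_aux le_rfl (by decide) (by decide) e) (not_lt.2 (a 1 hq))
  have key : ppChk q n (ppAux q n smP) smP = true := by
    rcases (show q = 2 ∨ 2 < q by omega) with rfl | q2
    · exact pp_two n (by nlinarith) hn h
    have : u < 7 := not_le.1 fun e => absurd (lt_pow_aux (by decide) (by decide) (by decide) e) (not_lt.2 (a 2 q2))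
    refine pp_small q (not_le.1 fun e => ?_) q2 n (by nlinarith) hn h
    have := a 7 e
    interval_cases u <;> omega
  obtain ⟨⟨a, b⟩, c⟩ := ppChk_spec key
  refine ⟨_, a, fun i d e => Nat.coprime_of_dvd fun r hr f g => ?_, b⟩
  rw [dvd_pow_sub_one_iff (by omega)] at g
  obtain ⟨k, hk⟩ := (dvd_pow_sub_one_iff (by omega)).1 (f.trans a)
  have h9 := Nat.le_of_dvd d g
  obtain ⟨t, ht, k, rfl⟩ := Nat.exists_prime_and_dvd (show k ≠ 1 by rintro rfl; omega)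
  have h10 : t ∣ n := hk ▸ (dvd_mul_right t k).mul_left _
  refine hr.ne_one (Nat.eq_one_of_dvd_coprimes (c t ?_ h10) f ((dvd_pow_sub_one_iff (by omega)).2 ⟨k, ?_⟩))
  · have : t < 15 := by have := u3 t ht h10; omega
    revert ht
    interval_cases t <;> decide
  · exact Nat.div_eq_of_eq_mul_right ht.pos (by rw [← mul_left_comm, ← hk])

theorem zsigmondy (hq : 1 < q) (hn : 1 < n) (h6 : ¬ (q = 2 ∧ n = 6)) (h2 : ¬ (n = 2 ∧ ∃ m : ℕ, q + 1 = 2 ^ m)) :
    ∃ r : ℕ, r.Prime ∧ r ∣ q ^ n - 1 ∧ ∀ k : ℕ, 0 < k → k < n → ¬ r ∣ q ^ k - 1 := by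
  rcases (show n = 2 ∨ 2 < n by omega) with rfl | hn
  · obtain ⟨k, m, a, b⟩ := Nat.exists_eq_pow_mul_and_not_dvd (show q + 1 ≠ 0 by omega) 2 (by decide)
    obtain ⟨r, hr, c⟩ := Nat.exists_prime_and_dvd (show m ≠ 1 by rintro rfl; exact h2 ⟨rfl, k, by simpa using b⟩)
    have d : r ∣ q + 1 := b ▸ c.mul_left _
    refine ⟨r, hr, by rw [← one_pow 2, Nat.sq_sub_sq]; exact d.mul_right _, fun k e f g => a ?_⟩
    obtain rfl : k = 1 := by omega
    have := Nat.dvd_sub d g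
    rw [pow_one, show q + 1 - (q - 1) = 2 by omega] at this
    exact (Nat.prime_dvd_prime_iff_eq hr Nat.prime_two).1 this ▸ c
  by_cases h : (q, n) ∈ herL
  · have : ∀ x ∈ herL, x ≠ (2, 6) → ∃ r < 42, r.Prime ∧ r ∣ x.1 ^ x.2 - 1 ∧ ∀ k < x.2, 0 < k → ¬ r ∣ x.1 ^ k - 1 := by decide +kernel
    obtain ⟨r, -, a, b, c⟩ := this _ h fun e => h6 (Prod.mk.inj e)
    exact ⟨r, a, b, fun k d e => c k e d⟩
  obtain ⟨m, a, b, c⟩ := hering hq hn h
  obtain ⟨r, hr, d⟩ := Nat.exists_prime_and_dvd (show m ≠ 1 by omega)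
  exact ⟨r, hr, d.trans a, fun k e f g => hr.ne_one (Nat.eq_one_of_dvd_coprimes (b k e f) d g)⟩

end Cfsg.Agent.GS
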